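import Cfsg.Agent.H90.Rudv.CandDefs

/-!
Checks of the candidates (part 0).
-/

set_option autoImplicit false
set_option maxRecDepth 20000
set_option Elab.async false

namespace Cfsg.Agent.H90.Rudv

theorem block_cert0 : blockOK 0 = true := by decide +kernel
theorem block_cert1 : blockOK 1 = true := by decide +kernel
theorem block_cert2 : blockOK 2 = true := by decide +kernel
theorem block_cert3 : blockOK 3 = true := by decide +kernel
theorem block_cert4 : blockOK 4 = true := by decide +kernel
theorem block_cert5 : blockOK 5 = true := by decide +kernel
theorem block_cert6 : blockOK 6 = true := by decide +kernel
theorem block_cert7 : blockOK 7 = true := by decide +kernel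
theorem block_cert8 : blockOK 8 = true := by decide +kernel
theorem block_cert9 : blockOK 9 = true := by decide +kernel
theorem block_cert10 : blockOK 10 = true := by decide +kernel
theorem block_cert11 : blockOK 11 = true := by decide +kernel
theorem block_cert12 : blockOK 12 = true := by decide +kernel
theorem block_cert13 : blockOK 13 = true := by decide +kernel
theorem block_cert14 : blockOK 14 = true := by decide +kernel
theorem block_cert15 : blockOK 15 = true := by decide +kernel

end Cfsg.Agent.H90.Rudv
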