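import Cfsg.Agent.H90.Rudv.CandDefs

/-!
Checks of the candidates (part 1).
-/

set_option autoImplicit false
set_option maxRecDepth 20000
set_option Elab.async false

namespace Cfsg.Agent.H90.Rudv

theorem block_cert16 : blockOK 16 = true := by decide +kernel
theorem block_cert17 : blockOK 17 = true := by decide +kernel
theorem block_cert18 : blockOK 18 = true := by decide +kernel
theorem block_cert19 : blockOK 19 = true := by decide +kernel
theorem block_cert20 : blockOK 20 = true := by decide +kernel
theorem block_cert21 : blockOK 21 = true := by decide +kernel
theorem block_cert22 : blockOK 22 = true := by decide +kernel
theorem block_cert23 : blockOK 23 = true := by decide +kernel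
theorem block_cert24 : blockOK 24 = true := by decide +kernel
theorem block_cert25 : blockOK 25 = true := by decide +kernel
theorem block_cert26 : blockOK 26 = true := by decide +kernel
theorem block_cert27 : blockOK 27 = true := by decide +kernel
theorem block_cert28 : blockOK 28 = true := by decide +kernel
theorem block_cert29 : blockOK 29 = true := by decide +kernel
theorem block_cert30 : blockOK 30 = true := by decide +kernel
theorem block_cert31 : blockOK 31 = true := by decide +kernel

end Cfsg.Agent.H90.Rudv
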