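import Cfsg.Agent.H90.Rudv.CandDefs

/-!
Checks of the candidates (part 2).
-/

set_option autoImplicit false
set_option maxRecDepth 20000
set_option Elab.async false

namespace Cfsg.Agent.H90.Rudv

theorem block_cert32 : blockOK 32 = true := by decide +kernel
theorem block_cert33 : blockOK 33 = true := by decide +kernel
theorem block_cert34 : blockOK 34 = true := by decide +kernel
theorem block_cert35 : blockOK 35 = true := by decide +kernel
theorem block_cert36 : blockOK 36 = true := by decide +kernel
theorem block_cert37 : blockOK 37 = true := by decide +kernel
theorem block_cert38 : blockOK 38 = true := by decide +kernel
theorem block_cert39 : blockOK 39 = true := by decide +kernel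
theorem block_cert40 : blockOK 40 = true := by decide +kernel
theorem block_cert41 : blockOK 41 = true := by decide +kernel
theorem block_cert42 : blockOK 42 = true := by decide +kernel
theorem block_cert43 : blockOK 43 = true := by decide +kernel
theorem block_cert44 : blockOK 44 = true := by decide +kernel
theorem block_cert45 : blockOK 45 = true := by decide +kernel
theorem block_cert46 : blockOK 46 = true := by decide +kernel
theorem block_cert47 : blockOK 47 = true := by decide +kernel

end Cfsg.Agent.H90.Rudv
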