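import Cfsg.Agent.H90.Rudv.CandDefs

/-!
Checks of the candidates (part 3).
-/

set_option autoImplicit false
set_option maxRecDepth 20000
set_option Elab.async false

namespace Cfsg.Agent.H90.Rudv

theorem block_cert48 : blockOK 48 = true := by decide +kernel
theorem block_cert49 : blockOK 49 = true := by decide +kernel
theorem block_cert50 : blockOK 50 = true := by decide +kernel
theorem block_cert51 : blockOK 51 = true := by decide +kernel
theorem block_cert52 : blockOK 52 = true := by decide +kernel
theorem block_cert53 : blockOK 53 = true := by decide +kernel
theorem block_cert54 : blockOK 54 = true := by decide +kernel
theorem block_cert55 : blockOK 55 = true := by decide +kernel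
theorem block_cert56 : blockOK 56 = true := by decide +kernel
theorem block_cert57 : blockOK 57 = true := by decide +kernel
theorem block_cert58 : blockOK 58 = true := by decide +kernel
theorem block_cert59 : blockOK 59 = true := by decide +kernel
theorem block_cert60 : blockOK 60 = true := by decide +kernel
theorem block_cert61 : blockOK 61 = true := by decide +kernel
theorem block_cert62 : blockOK 62 = true := by decide +kernel
theorem block_cert63 : blockOK 63 = true := by decide +kernel

end Cfsg.Agent.H90.Rudv
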