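import Cfsg.Agent.H90.Rudv.Sixteen
import Cfsg.Agent.H90.Rudv.CandCert0
import Cfsg.Agent.H90.Rudv.CandCert1
import Cfsg.Agent.H90.Rudv.CandCert2
import Cfsg.Agent.H90.Rudv.CandCert3

/-!
A subgroup of order 15600 of a point stabiliser of the Rudvalis graph which contains the element
of order five and moves a neighbour to a near neighbour is the stabiliser of a further point.
-/

set_option autoImplicit false
set_option maxRecDepth 20000

namespace Cfsg.Agent.H90.Rudv

open Cfsg.Agent.PGroups.Ru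

theorem block_all {g : ℕ} (hg : g < 64) : blockOK g = true := by
  interval_cases g
  exacts [block_cert0, block_cert1, block_cert2, block_cert3, block_cert4, block_cert5,
    block_cert6, block_cert7, block_cert8, block_cert9, block_cert10, block_cert11,
    block_cert12, block_cert13, block_cert14, block_cert15, block_cert16, block_cert17,
    block_cert18, block_cert19, block_cert20, block_cert21, block_cert22, block_cert23,
    block_cert24, block_cert25, block_cert26, block_cert27, block_cert28, block_cert29,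
    block_cert30, block_cert31, block_cert32, block_cert33, block_cert34, block_cert35,
    block_cert36, block_cert37, block_cert38, block_cert39, block_cert40, block_cert41,
    block_cert42, block_cert43, block_cert44, block_cert45, block_cert46, block_cert47,
    block_cert48, block_cert49, block_cert50, block_cert51, block_cert52, block_cert53,
    block_cert54, block_cert55, block_cert56, block_cert57, block_cert58, block_cert59,
    block_cert60, block_cert61, block_cert62, block_cert63]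

theorem period_dvd {α : Type*} [Finite α] (w : Equiv.Perm α) (p : α) {q k : ℕ} (hq : q.Prime)
    (h1 : (w ^ (q ^ (k + 1))) p = p) (h2 : (w ^ (q ^ k)) p ≠ p) : q ^ (k + 1) ∣ orderOf w := by
  have e1 : MulAction.period w p ∣ q ^ (k + 1) := MulAction.pow_smul_eq_iff_period_dvd.1 h1
  have e2 : ¬ MulAction.period w p ∣ q ^ k := fun h => h2 (MulAction.pow_smul_eq_iff_period_dvd.2 h)
  haveI := Fact.mk hq
  rw [← Nat.eq_prime_pow_of_dvd_least_prime_pow hq e2 e1]
  exact MulAction.period_dvd_orderOf w p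

/-- The generating candidate of a given position. -/
noncomputable def hCand (g r : ℕ) : Equiv.Perm (Fin 4060) :=
  node (idxT.getD (g / 32) 0) * node (idxA.getD (g % 32) 0) * node (idxB.getD (r / 4) 0) *
    node (idxZ.getD (r % 4) 0)

theorem getD_mem {l : List ℕ} {i : ℕ} (h : i < l.length) : l.getD i 0 ∈ l := by
  rw [List.getD_eq_getElem _ _ h]; exact List.getElem_mem _

theorem idx_lengths : idxA.length = 32 ∧ idxB.length = 32 ∧ idxZ.length = 4 ∧ idxT.length = 2 := by
  have h := cover_cert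
  simp only [coverOK, Bool.and_eq_true, beq_iff_eq] at h
  exact ⟨h.1.1.1.2, h.1.1.2, h.1.2, h.2⟩

theorem hCand_spec {g r : ℕ} (hg : g < 64) (hr : r < 128) :
    hCand g r ∈ fix1 ∧ ∀ x : Fin 4060, (hCand g r x).1 = hImg g r x.1 := by
  obtain ⟨hA, hB, hZ, -, hT⟩ := node_lists
  obtain ⟨la, lb, lz, lt⟩ := idx_lengths
  obtain ⟨t1, t2⟩ := hT _ (getD_mem (l := idxT) (i := g / 32) (by omega))
  obtain ⟨a1, a2⟩ := hA _ (getD_mem (l := idxA) (i := g % 32) (by omega))
  obtain ⟨b1, b2⟩ := hB _ (getD_mem (l := idxB) (i := r / 4) (by omega))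
  obtain ⟨z1, z2⟩ := hZ _ (getD_mem (l := idxZ) (i := r % 4) (by omega))
  have a2' : node (idxA.getD (g % 32) 0) ∈ fix1 := a2.1
  have b2' : node (idxB.getD (r / 4) 0) ∈ fix1 := b2.1
  have z2' : node (idxZ.getD (r % 4) 0) ∈ fix1 := z2.1.1
  refine ⟨mul_mem (mul_mem (mul_mem t2 a2') b2') z2', fun x => ?_⟩
  simp only [hCand, Equiv.Perm.mul_apply, hImg, (node_spec t1).2, (node_spec a1).2,
    (node_spec b1).2, (node_spec z1).2]

/-- A word in the element of order five and a candidate. -/
noncomputable def wordPerm (g r : ℕ) (qs : List ℕ) : Equiv.Perm (Fin 4060) :=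
  qs.foldl (fun σ q => hCand g r * eP ^ q * σ) 1

theorem wordPerm_spec {g r : ℕ} (hg : g < 64) (hr : r < 128)
    {K : Subgroup (Equiv.Perm (Fin 4060))} (he : eP ∈ K) (hh : hCand g r ∈ K) :
    ∀ (qs : List ℕ), (∀ q ∈ qs, q < 5) → wordPerm g r qs ∈ K ∧
      ∀ (k : ℕ) (x : Fin 4060), ((wordPerm g r qs ^ k) x).1 = wordIter g r qs k x.1 := by
  intro qs hqs
  have hgen : ∀ (l : List ℕ), (∀ q ∈ l, q < 5) → ∀ σ ∈ K,
      l.foldl (fun σ q => hCand g r * eP ^ q * σ) σ ∈ K ∧
      ∀ x : Fin 4060, ((l.foldl (fun σ q => hCand g r * eP ^ q * σ) σ) x).1 =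
        l.foldl (fun y q => hImg g r (img (idxE.getD q 0) y)) (σ x).1 := by
    intro l
    induction l with
    | nil => intro _ σ hσ; exact ⟨hσ, fun x => rfl⟩
    | cons q l ih =>
      intro hl σ hσ
      have hq := hl q List.mem_cons_self
      obtain ⟨h1, h2⟩ := ih (fun a ha => hl a (List.mem_cons_of_mem _ ha))
        (hCand g r * eP ^ q * σ) (mul_mem (mul_mem hh (pow_mem he q)) hσ)
      refine ⟨h1, fun x => ?_⟩
      rw [List.foldl_cons, List.foldl_cons, h2]
      congr 1
      rw [Equiv.Perm.mul_apply, Equiv.Perm.mul_apply, (hCand_spec hg hr).2, ← node_idxE hq,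
        (node_spec (node_lists.2.2.2.1 _ (idxE_mem hq)).1).2]
  obtain ⟨h1, h2⟩ := hgen qs hqs 1 (one_mem K)
  refine ⟨h1, fun k => ?_⟩
  induction k with
  | zero => intro x; rfl
  | succ k ih =>
    intro x
    rw [pow_succ', Equiv.Perm.mul_apply, wordIter, ← ih x]
    exact h2 _

theorem wit_sound {g r w : ℕ} (hg : g < 64) (hr : r < 128) (h : witOK g r w = true)
    {K : Subgroup (Equiv.Perm (Fin 4060))} (hK : K ≤ fix1) (hcard : Nat.card K = 15600)
    (he : eP ∈ K) (hh : hCand g r ∈ K) : False := by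
  simp only [witOK, Bool.and_eq_true, List.all_eq_true, decide_eq_true_eq, beq_iff_eq,
    Bool.not_eq_true', beq_eq_false_iff_ne] at h
  obtain ⟨⟨⟨hq, hp⟩, h16⟩, h8⟩ := h
  obtain ⟨hw, hv⟩ := wordPerm_spec hg hr he hh _ hq
  refine not_sixteen_dvd hK hcard he hw ?_
  refine period_dvd (q := 2) (k := 3) _ (fp (w % 4096)) Nat.prime_two (Fin.ext ?_) fun he' => h8 ?_
  · rw [hv, fp_val hp]; exact h16
  · have := congrArg Fin.val he'
    rw [hv, fp_val hp] at this
    exact this

theorem orbit_sound {g r n pk mask : ℕ} (hg : g < 64) (hr : r < 128)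
    (h : orbOK g r n pk mask = true) :
    (MulAction.orbit (Subgroup.closure {eP, hCand g r}) (fp 4059)).ncard = n := by
  simp only [orbOK, Bool.and_eq_true, Bool.or_eq_true, List.all_eq_true, List.mem_range,
    decide_eq_true_eq, beq_iff_eq] at h
  obtain ⟨⟨⟨⟨⟨hn, h0⟩, htree⟩, hmask⟩, hlen⟩, hclosed⟩ := h
  set H := Subgroup.closure ({eP, hCand g r} : Set (Equiv.Perm (Fin 4060)))
  have heH : eP ∈ H := Subgroup.subset_closure (by simp)
  have hhH : hCand g r ∈ H := Subgroup.subset_closure (by simp)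
  have hev : ∀ x : Fin 4060, (eP x).1 = img eIdx x.1 := fun x => by
    rw [← pow_one eP, ← node_idxE (q := 1) (by norm_num)]
    exact (node_spec eIdx_lt).2 x
  have hreach : ∀ t, t < n → fp (entry pk t % 4096) ∈ MulAction.orbit H (fp 4059) := by
    intro t
    induction t using Nat.strong_induction_on with
    | _ t ih =>
      intro ht
      obtain ⟨hlt, hor⟩ := htree t ht
      rcases hor with rfl | ⟨hpar, hval⟩
      · rw [h0]; exact MulAction.mem_orbit_self _
      · obtain ⟨σ, hσ⟩ := ih _ hpar (by omega)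
        have hσ' : (σ : Equiv.Perm (Fin 4060)) (fp 4059) = fp (entry pk (entry pk t / 16384) % 4096) := hσ
        have hq4 := (htree _ (by omega : entry pk t / 16384 < n)).1
        split_ifs at hval
        · refine ⟨⟨eP, heH⟩ * σ, ?_⟩
          show (eP * (σ : Equiv.Perm (Fin 4060))) (fp 4059) = _
          rw [Equiv.Perm.mul_apply, hσ']
          exact Fin.ext (by rw [hev, fp_val hq4, fp_val hlt, hval])
        · refine ⟨⟨hCand g r, hhH⟩ * σ, ?_⟩
          show (hCand g r * (σ : Equiv.Perm (Fin 4060))) (fp 4059) = _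
          rw [Equiv.Perm.mul_apply, hσ']
          exact Fin.ext (by rw [(hCand_spec hg hr).2, fp_val hq4, fp_val hlt, hval])
  have hroot : fp 4059 ∈ mset mask := by
    show mask.testBit (fp 4059).1 = true
    rw [fp_val (by norm_num : (4059 : ℕ) < 4060), ← hmask, testBit_orMask]
    exact ⟨_, List.mem_map.2 ⟨0, List.mem_range.2 hn, rfl⟩, by rw [h0]; exact Nat.testBit_two_pow_self⟩
  have hpres : H ≤ presGrp mask := by
    rw [Subgroup.closure_le]
    have key : ∀ σ : Equiv.Perm (Fin 4060), ∀ f : ℕ → ℕ, (∀ x, (σ x).1 = f x.1) →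
        (∀ x ∈ members mask, mask.testBit (f x) = true) → σ ∈ presGrp mask := by
      intro σ f hf hcl
      refine pres_of_fwd fun x hx => ?_
      show mask.testBit (σ x).1 = true
      rw [hf]
      exact hcl x.1 (List.mem_filter.2 ⟨List.mem_range.2 x.2, hx⟩)
    rintro σ (rfl | rfl)
    · exact key _ _ hev fun x hx => (hclosed x hx).1
    · exact key _ _ (hCand_spec hg hr).2 fun x hx => (hclosed x hx).2
  have heq : MulAction.orbit H (fp 4059) = mset mask := by
    ext x
    constructor
    · rintro ⟨σ, rfl⟩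
      show mask.testBit ((σ : Equiv.Perm (Fin 4060)) (fp 4059)).1 = true
      rw [hpres σ.2]; exact hroot
    · intro hx
      have hx' : mask.testBit x.1 = true := hx
      rw [← hmask, testBit_orMask] at hx'
      obtain ⟨m, hm, hb⟩ := hx'
      obtain ⟨t, ht, rfl⟩ := List.mem_map.1 hm
      rw [Nat.testBit_two_pow, decide_eq_true_eq] at hb
      have := hreach t (List.mem_range.1 ht)
      rwa [hb, fp_fin] at this
  rw [heq, ncard_mset, hlen]

theorem good_sound {g r c lw p n : ℕ} (hg : g < 64) (hr : r < 128)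
    (h : goodOK g r c lw p n = true)
    (horb : (MulAction.orbit (Subgroup.closure {eP, hCand g r}) (fp 4059)).ncard = n)
    {K : Subgroup (Equiv.Perm (Fin 4060))} (hK : K ≤ fix1) (hcard : Nat.card K = 15600)
    (he : eP ∈ K) (hh : hCand g r ∈ K) :
    ∃ c : Fin 4060, c ∈ mset (tMask 2) ∧ R (fp 4059) c ∧ K = fix1 ⊓ stab c.1 := by
  simp only [goodOK, Bool.and_eq_true, Bool.or_eq_true, List.all_eq_true, List.mem_range,
    decide_eq_true_eq, beq_iff_eq, Bool.not_eq_true', beq_eq_false_iff_ne] at h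
  obtain ⟨⟨⟨⟨⟨⟨⟨⟨⟨⟨⟨⟨hn, hc⟩, hc9⟩, hcD⟩, hcR⟩, hec⟩, hhc⟩, huniq⟩, hqs⟩, hp⟩, hw0⟩, hw4⟩,
    hw2⟩ := h
  set H := Subgroup.closure ({eP, hCand g r} : Set (Equiv.Perm (Fin 4060))) with hH
  have heH : eP ∈ H := Subgroup.subset_closure (by simp)
  have hhH : hCand g r ∈ H := Subgroup.subset_closure (by simp)
  have hHK : H ≤ K := by
    rw [hH, Subgroup.closure_le]
    rintro σ (rfl | rfl)
    exacts [he, hh]
  have hev : ∀ x : Fin 4060, (eP x).1 = img eIdx x.1 := fun x => by
    rw [← pow_one eP, ← node_idxE (q := 1) (by norm_num)]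
    exact (node_spec eIdx_lt).2 x
  obtain ⟨hw, hv⟩ := wordPerm_spec hg hr heH hhH _ hqs
  set w := wordPerm g r (word lw)
  set S := H ⊓ MulAction.stabilizer (Equiv.Perm (Fin 4060)) (fp 4059)
  have hwS : w ∈ S := by
    refine ⟨hw, ?_⟩
    show w (fp 4059) = fp 4059
    refine Fin.ext ?_
    have := hv 1 (fp 4059)
    rw [pow_one] at this
    rw [this, fp_val (by norm_num : (4059 : ℕ) < 4060)]
    exact hw0
  have heS : eP ∈ S := ⟨heH, mem_stab.1 eP_mem.1.2⟩
  have h4 : 2 ^ (1 + 1) ∣ orderOf w := by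
    refine period_dvd w (fp p) Nat.prime_two (Fin.ext ?_) fun he' => hw2 ?_
    · rw [hv, fp_val hp]; exact hw4
    · have := congrArg Fin.val he'
      rwa [hv, fp_val hp] at this
  have h20 : 20 ∣ Nat.card S := by
    have e5 : 5 ∣ Nat.card S := eP_order ▸ Subgroup.orderOf_dvd_natCard S heS
    have e4 : 4 ∣ Nat.card S := dvd_trans h4 (Subgroup.orderOf_dvd_natCard S hwS)
    exact (Nat.Coprime.mul_dvd_of_dvd_of_dvd (by norm_num : Nat.Coprime 4 5) e4 e5 : 4 * 5 ∣ _)
  have hHcard : 7800 ∣ Nat.card H := by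
    rw [card_eq_orbit_mul H (fp 4059), horb, hn]
    exact Nat.mul_dvd_mul (dvd_refl 390) h20
  have hnorm : ∀ σ ∈ K, ∀ η ∈ H, σ * η * σ⁻¹ ∈ H := by
    have hidx : (H.subgroupOf K).index ≤ 2 := by
      have h1 := (H.subgroupOf K).card_mul_index
      rw [hcard, Nat.card_congr (Subgroup.subgroupOfEquivOfLe hHK).toEquiv] at h1
      obtain ⟨d, hd⟩ := hHcard
      rw [hd, mul_assoc] at h1
      by_contra hcon
      have hd0 : d ≠ 0 := fun hd0 => by rw [hd0] at h1; simp at h1
      have h3 : 3 ≤ d * (H.subgroupOf K).index := by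
        calc 3 ≤ (H.subgroupOf K).index := by omega
          _ ≤ d * (H.subgroupOf K).index := Nat.le_mul_of_pos_left _ (Nat.pos_of_ne_zero hd0)
      omega
    have hne := (H.subgroupOf K).index_ne_zero_of_finite
    haveI hnor : (H.subgroupOf K).Normal := by
      rcases (show (H.subgroupOf K).index = 1 ∨ (H.subgroupOf K).index = 2 by omega) with h1 | h1
      · rw [Subgroup.index_eq_one] at h1
        rw [h1]; infer_instance
      · exact Subgroup.normal_of_index_eq_two h1
    intro σ hσ η hη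
    exact hnor.conj_mem ⟨η, hHK hη⟩ hη ⟨σ, hσ⟩
  have hfixH : ∀ η ∈ H, η (fp c) = fp c := by
    have : H ≤ MulAction.stabilizer (Equiv.Perm (Fin 4060)) (fp c) := by
      rw [hH, Subgroup.closure_le]
      rintro σ (rfl | rfl)
      · exact Fin.ext (by show (eP (fp c)).1 = _; rw [hev, fp_val hc, hec])
      · exact Fin.ext (by show (hCand g r (fp c)).1 = _; rw [(hCand_spec hg hr).2, fp_val hc, hhc])
    exact fun η hη => this hη
  have hKc : K ≤ MulAction.stabilizer (Equiv.Perm (Fin 4060)) (fp c) := by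
    intro σ hσ
    have hfix : ∀ η ∈ H, η (σ (fp c)) = σ (fp c) := by
      intro η hη
      have h1 := hfixH _ (hnorm σ⁻¹ (inv_mem hσ) η hη)
      rw [inv_inv, Equiv.Perm.mul_apply, Equiv.Perm.mul_apply, Equiv.Perm.inv_def,
        Equiv.symm_apply_eq] at h1
      exact h1
    have h0 : σ (fp 0) = fp 0 := (mem_fix1_iff.1 (hK hσ)).2
    have h1 := huniq (σ (fp c)).1 (σ (fp c)).2
    show σ (fp c) = fp c
    rcases h1 with ((h1 | h1) | h1) | h1
    · exfalso
      have : σ (fp c) = σ (fp 0) := by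
        rw [h0]; exact Fin.ext (by rw [h1, fp_val (by norm_num : 0 < 4060)])
      have h2 := congrArg Fin.val (σ.injective this)
      rw [fp_val hc, fp_val (by norm_num : 0 < 4060)] at h2
      have h3 := (mem_tMask2 (fp c)).1 (by rw [fp_val hc]; exact hcD)
      exact h3.1 (by rw [h2])
    · exact Fin.ext (by rw [h1, fp_val hc])
    · exact absurd (by rw [← hev, hfix _ heH]) h1
    · exact absurd (by rw [← (hCand_spec hg hr).2, hfix _ hhH]) h1
  have hcm : fp c ∈ mset (tMask 2) := by
    show (tMask 2).testBit (fp c).1 = true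
    rw [fp_val hc]; exact hcD
  refine ⟨fp c, hcm, ⟨fun h => hc9 ?_, ?_⟩, ?_⟩
  · have := congrArg Fin.val h
    rwa [fp_val (by norm_num : (4059 : ℕ) < 4060), fp_val hc, eq_comm] at this
  · rw [fp_val (by norm_num : (4059 : ℕ) < 4060), fp_val hc]; exact hcR
  · refine Subgroup.eq_of_le_of_card_ge (le_inf hK ?_) ?_
    · rw [stab, fp_fin]; exact hKc
    · rw [card_stab_delta hcm, hcard]

theorem cand_sound {g r : ℕ} (hg : g < 64) (hr : r < 128)
    {K : Subgroup (Equiv.Perm (Fin 4060))} (hK : K ≤ fix1) (hcard : Nat.card K = 15600)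
    (he : eP ∈ K) (hh : hCand g r ∈ K) :
    ∃ c : Fin 4060, c ∈ mset (tMask 2) ∧ R (fp 4059) c ∧ K = fix1 ⊓ stab c.1 := by
  have hb := block_all hg
  simp only [blockOK, List.all_eq_true, List.mem_range] at hb
  have hc := hb r hr
  simp only [candOK] at hc
  split_ifs at hc with h0 h1
  · exact (wit_sound hg hr hc hK hcard he hh).elim
  · simp only [Bool.and_eq_true, Bool.not_eq_true', beq_eq_false_iff_ne] at hc
    exfalso
    have horb := orbit_sound hg hr hc.1
    refine hc.2 (Nat.mod_eq_zero_of_dvd ?_)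
    have hle : Subgroup.closure {eP, hCand g r} ≤ K := by
      rw [Subgroup.closure_le]
      rintro σ (rfl | rfl)
      exacts [he, hh]
    rw [← hcard, ← horb]
    exact dvd_trans ⟨_, card_eq_orbit_mul _ _⟩ (Subgroup.card_dvd_of_le hle)
  · simp only [Bool.and_eq_true] at hc
    exact good_sound hg hr hc.2 (orbit_sound hg hr hc.1) hK hcard he hh

/-- A subgroup of order 15600 containing the element of order five which moves a neighbour to a
near one is a stabiliser of a point. -/
theorem stab_of_moving {K : Subgroup (Equiv.Perm (Fin 4060))} (hK : K ≤ fix1)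
    (hcard : Nat.card K = 15600) (he : eP ∈ K) {h : Equiv.Perm (Fin 4060)} (hh : h ∈ K)
    (hb : h (fp 4059) ∈ mset (tMask 9)) :
    ∃ c : Fin 4060, c ∈ mset (tMask 2) ∧ R (fp 4059) c ∧ K = fix1 ⊓ stab c.1 := by
  obtain ⟨q, -, t, ht, a, ha, b, hb', z, hz, q', -, hdec⟩ := fix1_decomp (hK hh) hb
  obtain ⟨la, lb, lz, lt⟩ := idx_lengths
  obtain ⟨k, hk, rfl⟩ := List.getElem_of_mem ht
  obtain ⟨i, hi, rfl⟩ := List.getElem_of_mem ha
  obtain ⟨j, hj, rfl⟩ := List.getElem_of_mem hb'
  obtain ⟨m, hm, rfl⟩ := List.getElem_of_mem hz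
  have hc : hCand (k * 32 + i) (j * 4 + m) = node idxT[k] * node idxA[i] * node idxB[j] * node idxZ[m] := by
    rw [hCand, show (k * 32 + i) / 32 = k by omega, show (k * 32 + i) % 32 = i by omega,
      show (j * 4 + m) / 4 = j by omega, show (j * 4 + m) % 4 = m by omega,
      List.getD_eq_getElem _ _ hk, List.getD_eq_getElem _ _ hi, List.getD_eq_getElem _ _ hj,
      List.getD_eq_getElem _ _ hm]
  refine cand_sound (g := k * 32 + i) (r := j * 4 + m) (by omega) (by omega) hK hcard he ?_
  rw [hc]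
  have : (eP ^ q)⁻¹ * h * (eP ^ q')⁻¹ = node idxT[k] * node idxA[i] * node idxB[j] * node idxZ[m] := by
    rw [hdec]; group
  rw [← this]
  exact mul_mem (mul_mem (inv_mem (pow_mem he q)) hh) (inv_mem (pow_mem he q'))

end Cfsg.Agent.H90.Rudv
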