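import Cfsg.Agent.H90.Rudv.Nodes
import Cfsg.Agent.H90.Rudv.DataCodes0
import Cfsg.Agent.H90.Rudv.DataCodes1
import Cfsg.Agent.H90.Rudv.DataCodes2
import Cfsg.Agent.H90.Rudv.DataCodes3
import Cfsg.Agent.H90.Rudv.DataSpec

/-!
The check of one candidate for a generator of a subgroup of order 15600.
-/

set_option autoImplicit false

namespace Cfsg.Agent.H90.Rudv

open Cfsg.Agent.PGroups.Ru

/-- The image of a point under a candidate. -/
def hImg (g r x : ℕ) : ℕ :=
  img (idxT.getD (g / 32) 0) (img (idxA.getD (g % 32) 0) (img (idxB.getD (r / 4) 0)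
    (img (idxZ.getD (r % 4) 0) x)))

/-- A word from a number. -/
def word (w : ℕ) : List ℕ := (List.range (w % 16)).map fun a => w / 16 / 8 ^ a % 8

/-- The image of a point under a word. -/
def wordImg (g r : ℕ) (qs : List ℕ) (x : ℕ) : ℕ :=
  qs.foldl (fun y q => hImg g r (img (idxE.getD q 0) y)) x

/-- Repetition of a word. -/
def wordIter (g r : ℕ) (qs : List ℕ) : ℕ → ℕ → ℕ
  | 0, x => x
  | k + 1, x => wordImg g r qs (wordIter g r qs k x)

/-- A point of period sixteen. -/
def witOK (g r w : ℕ) : Bool :=
  let p := w % 4096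
  let qs := word (w / 4096)
  qs.all (fun q => decide (q < 5)) && decide (p < 4060) &&
    wordIter g r qs 16 p == p && !(wordIter g r qs 8 p == p)

/-- An entry of an orbit tree. -/
def entry (pk t : ℕ) : ℕ := (pk >>> (32 * t)) % 4294967296

/-- An orbit of the group generated by the element of order five and a candidate. -/
def orbOK (g r n pk mask : ℕ) : Bool :=
  decide (0 < n) && (entry pk 0 % 4096 == 4059) &&
  ((List.range n).all fun t =>
    let v := entry pk t
    let q := entry pk (v / 16384) % 4096
    decide (v % 4096 < 4060) && (t == 0 || (decide (v / 16384 < t) &&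
      (v % 4096 == if v / 4096 % 4 = 0 then img eIdx q else hImg g r q)))) &&
  (orMask ((List.range n).map fun t => 2 ^ (entry pk t % 4096)) == mask) &&
  ((members mask).length == n) &&
  (members mask).all fun x => mask.testBit (img eIdx x) && mask.testBit (hImg g r x)

/-- A candidate generating a subgroup of index at most two in a vertex stabiliser. -/
def goodOK (g r c lw p n : ℕ) : Bool :=
  (n == 390) && decide (c < 4060) && !(c == 4059) && (tMask 2).testBit c &&
  (adj 4059 c == false) && (img eIdx c == c) && (hImg g r c == c) &&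
  ((List.range 4060).all fun x => x == 0 || x == c || !(img eIdx x == x) || !(hImg g r x == x)) &&
  (word lw).all (fun q => decide (q < 5)) && decide (p < 4060) &&
  (wordImg g r (word lw) 4059 == 4059) && (wordIter g r (word lw) 4 p == p) &&
  !(wordIter g r (word lw) 2 p == p)

/-- A row of the special candidates. -/
def specRow (i : ℕ) : ℕ × ℕ × ℕ × ℕ × ℕ × ℕ × ℕ × ℕ :=
  specData.getD i (0, 0, 0, 0, 0, 0, 0, 0)

/-- The check of one candidate. -/
def candOK (g r code : ℕ) : Bool :=
  if code % 4 = 0 then witOK g r (code / 4) else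
    let s := specRow (code / 4)
    orbOK g r s.2.2.2.2.2.1 s.2.2.2.2.2.2.1 s.2.2.2.2.2.2.2 &&
      if code % 4 = 1 then !(15600 % s.2.2.2.2.2.1 == 0)
      else goodOK g r s.2.2.1 s.2.2.2.1 s.2.2.2.2.1 s.2.2.2.2.2.1

/-- All the codes. -/
def codeTabs : List (List ℕ) := codes0 ++ codes1 ++ codes2 ++ codes3

/-- The check of a block of candidates. -/
def blockOK (g : ℕ) : Bool :=
  (List.range 128).all fun r => candOK g r ((codeTabs.getD g []).getD r 0)

end Cfsg.Agent.H90.Rudv
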