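import Mathlib

/-!
Data: indices of the tables.
-/
set_option autoImplicit false
set_option maxRecDepth 100000

namespace Cfsg.Agent.H90.Rudv

/-- Products defining the tables from the tenth on. -/
def nodeDefs : List (Nat × Nat) := [(5, 5), (6, 5), (4, 5), (6, 6), (4, 6), (5, 4), (6, 4), (4, 4), (5, 11), (6, 11), (4, 11), (5, 13), (4, 13), (5, 14), (6, 14), (4, 14), (4, 15), (5, 16), (5, 17), (4, 17), (5, 18), (4, 19), (6, 20), (5, 22), (6, 22), (4, 22), (6, 25), (4, 28), (6, 10), (7, 38), (38, 38), (7, 39), (8, 39), (38, 39), (38, 40), (7, 41), (8, 41), (7, 42), (8, 42), (7, 43), (7, 44), (38, 44), (8, 45), (4, 16), (4, 53), (6, 54), (4, 55), (56, 38), (7, 56), (8, 56), (38, 56), (56, 39), (56, 40), (8, 57), (38, 57), (7, 58), (38, 58), (56, 58), (7, 59), (8, 59), (56, 59), (56, 60), (56, 41), (7, 61), (38, 65), (8, 67), (7, 7), (8, 7), (7, 8), (8, 8), (7, 76), (8, 76), (7, 77), (8, 77), (7, 78), (8, 78), (7, 79), (8, 79), (8, 80), (7, 82), (8, 82), (7, 83), (8, 83), (3,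 3), (3, 93), (3, 94), (5, 95), (2, 96), (3, 2), (2, 98), (5, 99), (3, 100), (3, 101)]

/-- Coset tables. -/
def idxA : List Nat := [9, 5, 6, 4, 10, 11, 12, 13, 14, 15, 16, 17, 18, 19, 20, 21, 22, 23, 24, 25, 26, 27, 28, 29, 30, 31, 32, 33, 34, 35, 36, 37]

/-- Coset tables, second factor. -/
def idxB : List Nat := [56, 38, 42, 47, 59, 66, 40, 49, 57, 50, 75, 48, 63, 58, 70, 65, 62, 71, 44, 60, 39, 41, 61, 74, 64, 73, 67, 72, 68, 43, 9, 69]

/-- Coset tables, third factor. -/
def idxZ : List Nat := [9, 7, 8, 76]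

/-- Powers of the element of order five. -/
def idxE : List Nat := [9, 77, 90, 78, 91]

/-- The elements moving the base point. -/
def idxT : List Nat := [97, 102]

/-- The generating candidate of the vertex stabiliser. -/
def selIdx : List Nat := [1, 19, 26, 0]

end Cfsg.Agent.H90.Rudv
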