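import Cfsg.Agent.H90.Rudv.CandDefs

/-!
The orbits of the stabiliser of a point at distance two.
-/

set_option autoImplicit false
set_option maxRecDepth 20000
set_option Elab.async false

namespace Cfsg.Agent.H90.Rudv

open Cfsg.Agent.PGroups.Ru

/-- The image under one of three generators. -/
def mImg (k x : ℕ) : ℕ :=
  if k = 0 then tget (fwd 7) x else if k = 1 then tget (fwd 8) x else hImg 51 104 x

/-- A row of the orbits. -/
def orbRow (i : ℕ) : ℕ × ℕ × ℕ := orbData.getD i (0, 0, 0)

/-- An orbit is reached from its first point. -/
def reachOK (i : ℕ) : Bool :=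
  let n := (orbRow i).1; let pk := (orbRow i).2.1; let mask := (orbRow i).2.2
  decide (0 < n) &&
  ((List.range n).all fun t =>
    let v := entry pk t
    decide (v % 4096 < 4060) && (t == 0 || (decide (v / 16384 < t) && decide (v / 4096 % 4 < 3) &&
      (v % 4096 == mImg (v / 4096 % 4) (entry pk (v / 16384) % 4096))))) &&
  (orMask ((List.range n).map fun t => 2 ^ (entry pk t % 4096)) == mask)

theorem reach_cert : ((List.range orbData.length).all reachOK) = true := by decide +kernel

/-- The masks of the orbits. -/
def orbMasks : List ℕ := orbData.map fun e => e.2.2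

theorem orb_fix_cert :
    (([0, 1, 2].all fun k => mImg k 4024 == 4024) && (hImg 51 104 0 == 0) &&
      (orMask orbMasks == tMask 2)) = true := by
  decide +kernel

/-- The neighbours of the point at distance two among the points at distance two. -/
def dMask : ℕ :=
  orMask (((List.range 4060).filter fun x =>
    (tMask 2).testBit x && !(x == 4024) && !adj 4024 x).map fun x => 2 ^ x)

/-- The check of one union of orbits. -/
def unionOK (s : List ℕ) : Bool :=
  let m := orMask s
  !((members m).length == 975) || m.testBit 4024 || m == dMask

theorem dmask_value : (dMask.testBit 4024 == false) = true := by decide +kernel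

theorem dmask_cert0 : (((orbMasks.sublists.drop 0).take 16).all unionOK) = true := by decide +kernel

theorem dmask_cert1 : (((orbMasks.sublists.drop 16).take 16).all unionOK) = true := by decide +kernel

theorem dmask_cert2 : (((orbMasks.sublists.drop 32).take 16).all unionOK) = true := by decide +kernel

theorem dmask_cert3 : (((orbMasks.sublists.drop 48).take 16).all unionOK) = true := by decide +kernel

theorem dmask_cert4 : (((orbMasks.sublists.drop 64).take 16).all unionOK) = true := by decide +kernel

theorem dmask_cert5 : (((orbMasks.sublists.drop 80).take 16).all unionOK) = true := by decide +kernel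

theorem dmask_cert6 : (((orbMasks.sublists.drop 96).take 16).all unionOK) = true := by decide +kernel

theorem dmask_cert7 : (((orbMasks.sublists.drop 112).take 16).all unionOK) = true := by decide +kernel

theorem sublists_length : (orbMasks.sublists.length == 128) = true := by decide +kernel

theorem dmask_cert {s : List ℕ} (hs : s ∈ orbMasks.sublists) : unionOK s = true := by
  obtain ⟨i, hi, rfl⟩ := List.getElem_of_mem hs
  have hl := sublists_length
  rw [beq_iff_eq] at hl
  have key : ∀ lo, ((orbMasks.sublists.drop lo).take 16).all unionOK = true → lo ≤ i →
      i < lo + 16 → unionOK orbMasks.sublists[i] = true := by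
    intro lo h h1 h2
    refine List.all_eq_true.1 h _ (List.mem_iff_getElem.2 ⟨i - lo, ?_, ?_⟩)
    · simp only [List.length_take, List.length_drop]; omega
    · simp only [List.getElem_take, List.getElem_drop, show lo + (i - lo) = i by omega]
  rcases Nat.lt_or_ge i 16 with h0 | h0
  · exact key _ dmask_cert0 (by omega) (by omega)
  rcases Nat.lt_or_ge i 32 with h1 | h1
  · exact key _ dmask_cert1 (by omega) (by omega)
  rcases Nat.lt_or_ge i 48 with h2 | h2
  · exact key _ dmask_cert2 (by omega) (by omega)
  rcases Nat.lt_or_ge i 64 with h3 | h3
  · exact key _ dmask_cert3 (by omega) (by omega)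
  rcases Nat.lt_or_ge i 80 with h4 | h4
  · exact key _ dmask_cert4 (by omega) (by omega)
  rcases Nat.lt_or_ge i 96 with h5 | h5
  · exact key _ dmask_cert5 (by omega) (by omega)
  rcases Nat.lt_or_ge i 112 with h6 | h6
  · exact key _ dmask_cert6 (by omega) (by omega)
  exact key _ dmask_cert7 (by omega) (by omega)

end Cfsg.Agent.H90.Rudv
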