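import Cfsg.Agent.H90.Rudv.Facts
import Cfsg.Agent.H90.Rudv.DeltaCert

/-!
A set of 975 points invariant under the stabiliser of a point at distance two.
-/

set_option autoImplicit false
set_option maxRecDepth 20000

namespace Cfsg.Agent.H90.Rudv

open Cfsg.Agent.PGroups.Ru

/-- The generators of the three permutations. -/
noncomputable def mPerm (k : ℕ) : Equiv.Perm (Fin 4060) :=
  if k = 0 then perm 7 else if k = 1 then perm 8 else hCand 51 104

theorem mPerm_spec {k : ℕ} (hk : k < 3) :
    mPerm k ∈ fix1 ⊓ stab 4024 ∧ ∀ x : Fin 4060, (mPerm k x).1 = mImg k x.1 := by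
  have hv : ∀ x : Fin 4060, (mPerm k x).1 = mImg k x.1 := by
    intro x
    interval_cases k
    · simp only [mPerm, mImg, if_true]; exact perm_val (by norm_num) x
    · simp only [mPerm, mImg, one_ne_zero, if_false, if_true]; exact perm_val (by norm_num) x
    · simp only [mPerm, mImg, show (2 : ℕ) ≠ 0 by norm_num, show (2 : ℕ) ≠ 1 by norm_num, if_false]
      exact (hCand_spec (by norm_num) (by norm_num)).2 x
  have h1 : mPerm k ∈ fix1 := by
    interval_cases k
    · simp only [mPerm, if_true]; exact perm_mem_fix1 (by simp)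
    · simp only [mPerm, one_ne_zero, if_false, if_true]; exact perm_mem_fix1 (by simp)
    · simp only [mPerm, show (2 : ℕ) ≠ 0 by norm_num, show (2 : ℕ) ≠ 1 by norm_num, if_false]
      exact (hCand_spec (by norm_num) (by norm_num)).1
  refine ⟨⟨h1, mem_stab.2 (Fin.ext ?_)⟩, hv⟩
  have h := orb_fix_cert
  simp only [Bool.and_eq_true, List.all_eq_true, beq_iff_eq] at h
  rw [hv, fp_val (by norm_num : (4024 : ℕ) < 4060)]
  exact h.1.1 k (by interval_cases k <;> simp)

theorem delta_cases (O : Set (Fin 4060))
    (hO : ∀ σ ∈ fix1 ⊓ stab 4024, ∀ x ∈ O, σ x ∈ O)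
    (hsub : ∀ x ∈ O, x ∈ mset (tMask 2) ∧ x ≠ fp 4024) (hc : O.ncard = 975) :
    ∀ x ∈ mset (tMask 2), (x ∈ O ↔ R (fp 4024) x) := by
  have hfix := orb_fix_cert
  simp only [Bool.and_eq_true, List.all_eq_true, beq_iff_eq] at hfix
  obtain ⟨s, hs, hOs⟩ := eq_union (ps := orbMasks) O (fun m hm => by
    obtain ⟨e, he, rfl⟩ := List.mem_map.1 hm
    obtain ⟨i, hi, rfl⟩ := List.getElem_of_mem he
    have hrow : orbRow i = orbData[i] := by rw [orbRow, List.getD_eq_getElem _ _ hi]
    have h := List.all_eq_true.1 reach_cert i (List.mem_range.2 hi)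
    simp only [reachOK, hrow, Bool.and_eq_true, Bool.or_eq_true, List.all_eq_true,
      List.mem_range, decide_eq_true_eq, beq_iff_eq] at h
    obtain ⟨⟨hn, htree⟩, hmask⟩ := h
    set n := orbData[i].1
    set pk := orbData[i].2.1
    have hall : ∀ t, t < n → (fp (entry pk 0 % 4096) ∈ O ↔ fp (entry pk t % 4096) ∈ O) := by
      intro t
      induction t using Nat.strong_induction_on with
      | _ t ih =>
        intro ht
        obtain ⟨hlt, hor⟩ := htree t ht
        rcases hor with rfl | ⟨⟨hpar, hgen⟩, hval⟩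
        · exact Iff.rfl
        · rw [ih _ hpar (by omega)]
          have hq := (htree _ (by omega : entry pk t / 16384 < n)).1
          obtain ⟨hm, hv⟩ := mPerm_spec hgen
          have e : mPerm (entry pk t / 4096 % 4) (fp (entry pk (entry pk t / 16384) % 4096)) =
              fp (entry pk t % 4096) := Fin.ext (by rw [hv, fp_val hq, fp_val hlt, hval])
          constructor
          · intro hx
            rw [← e]; exact hO _ hm _ hx
          · intro hx
            have h := hO _ (inv_mem hm) _ hx
            rw [← e, Equiv.Perm.inv_def, Equiv.symm_apply_apply] at h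
            exact h
    have hmem : ∀ x ∈ mset orbData[i].2.2, ∃ t < n, x = fp (entry pk t % 4096) := by
      intro x hx
      have hx' : (orbData[i].2.2).testBit x.1 = true := hx
      rw [← hmask, testBit_orMask] at hx'
      obtain ⟨m, hm, hb⟩ := hx'
      obtain ⟨t, ht, rfl⟩ := List.mem_map.1 hm
      rw [Nat.testBit_two_pow, decide_eq_true_eq] at hb
      exact ⟨t, List.mem_range.1 ht, by rw [hb, fp_fin]⟩
    by_cases h0 : fp (entry pk 0 % 4096) ∈ O
    · left
      intro x hx
      obtain ⟨t, ht, rfl⟩ := hmem x hx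
      exact (hall t ht).1 h0
    · right
      refine Set.disjoint_left.2 fun x hx hxO => h0 ?_
      obtain ⟨t, ht, rfl⟩ := hmem x hx
      exact (hall t ht).2 hxO) (fun x hx => by
    have h : (tMask 2).testBit x.1 = true := (hsub x hx).1
    rw [← hfix.2, testBit_orMask] at h
    exact h)
  have h := dmask_cert hs
  simp only [unionOK, Bool.or_eq_true, Bool.not_eq_true', beq_eq_false_iff_ne, beq_iff_eq] at h
  rw [hOs, ncard_mset] at hc
  have hOd : O = mset dMask := by
    rcases h with (h | h) | h
    · exact absurd hc h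
    · exfalso
      refine (hsub (fp 4024) ?_).2 rfl
      rw [hOs]
      show (orMask s).testBit (fp 4024).1 = true
      rw [fp_val (by norm_num : (4024 : ℕ) < 4060)]; exact h
    · rw [hOs, h]
  intro x hx
  rw [hOd]
  show dMask.testBit x.1 = true ↔ _
  constructor
  · intro hd
    have hm := mem_orMask_pow hd
    simp only [List.mem_filter, Bool.and_eq_true, Bool.not_eq_true', beq_eq_false_iff_ne] at hm
    refine ⟨fun e => hm.2.1.2 ?_, ?_⟩
    · rw [← e, fp_val (by norm_num : (4024 : ℕ) < 4060)]
    · rw [fp_val (by norm_num : (4024 : ℕ) < 4060)]; exact hm.2.2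
  · intro hR
    rw [dMask, testBit_orMask]
    refine ⟨_, List.mem_map.2 ⟨x.1, ?_, rfl⟩, Nat.testBit_two_pow_self⟩
    simp only [List.mem_filter, List.mem_range, Bool.and_eq_true, Bool.not_eq_true',
      beq_eq_false_iff_ne]
    have h4 := fp_val (by norm_num : (4024 : ℕ) < 4060)
    refine ⟨x.2, ⟨hx, fun e => hR.1 (Fin.ext (by rw [h4, e]))⟩, ?_⟩
    rw [← h4]; exact hR.2

end Cfsg.Agent.H90.Rudv
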