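import Cfsg.Agent.H90.Rudv.Cand

/-!
The sets of points fixed by stabilisers which occur in the recognition of the Rudvalis group.
-/

set_option autoImplicit false
set_option maxRecDepth 20000

namespace Cfsg.Agent.H90.Rudv

open Cfsg.Agent.PGroups.Ru

/-- The mask of the common neighbours of the two base points. -/
def lamMask : ℕ := tMask 7 ||| tMask 8 ||| tMask 9

theorem lam_cert :
    (((List.range 4060).all fun x => (lamMask.testBit x ==
        ((tMask 1).testBit x && !(x == 4059) && !adj 4059 x)) &&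
      ((tMask 3).testBit x == ((tMask 2).testBit x && !(x == 4059) && !adj 4059 x))) &&
    (tMask 3).testBit 4024 && (tMask 9).testBit (tRoot 9)) = true := by
  decide +kernel

theorem mate_cert :
    ((members (tMask 9)).all fun y =>
      ((members (tMask 9)).countP fun x => (tMask 9).testBit (trInv 1 (tFuel 1) y x)) == 1) = true := by
  decide +kernel

theorem common_cert :
    ((members (tMask 9)).all fun y =>
      !(((members (tMask 1)).countP fun x =>
        !(x == 4059) && !adj 4059 x && !(x == y) && !adj y x) + 1 == 730)) = true := by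
  decide +kernel

theorem pieces_cert :
    ([tMask 6, tMask 7, tMask 8, tMask 9].sublists.all fun s =>
      let m := orMask s
      !((members m).length % 256 == 218) || (members m).length == 1754 ||
        (m == lamMask && (members m).length == 730)) = true := by
  decide +kernel

theorem mem_lam (x : Fin 4060) :
    x ∈ mset lamMask ↔ x ∈ mset (tMask 1) ∧ R (fp 4059) x := by
  have h := lam_cert
  simp only [Bool.and_eq_true, List.all_eq_true, List.mem_range, beq_iff_eq] at h
  show lamMask.testBit x.1 = true ↔ (tMask 1).testBit x.1 = true ∧ _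
  rw [(h.1.1 x.1 x.2).1]
  simp only [Bool.and_eq_true, Bool.not_eq_true', beq_eq_false_iff_ne, R, ne_eq, Fin.ext_iff,
    fp_val (by norm_num : (4059 : ℕ) < 4060), and_assoc]
  exact and_congr_right fun _ => and_congr_left fun _ => not_congr eq_comm

theorem mem_three (x : Fin 4060) :
    x ∈ mset (tMask 3) ↔ x ∈ mset (tMask 2) ∧ R (fp 4059) x := by
  have h := lam_cert
  simp only [Bool.and_eq_true, List.all_eq_true, List.mem_range, beq_iff_eq] at h
  show (tMask 3).testBit x.1 = true ↔ (tMask 2).testBit x.1 = true ∧ _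
  rw [(h.1.1 x.1 x.2).2]
  simp only [Bool.and_eq_true, Bool.not_eq_true', beq_eq_false_iff_ne, R, ne_eq, Fin.ext_iff,
    fp_val (by norm_num : (4059 : ℕ) < 4060), and_assoc]
  exact and_congr_right fun _ => and_congr_left fun _ => not_congr eq_comm

theorem three_4024 : fp 4024 ∈ mset (tMask 3) := by
  have h := lam_cert
  simp only [Bool.and_eq_true] at h
  show (tMask 3).testBit (fp 4024).1 = true
  rw [fp_val (by norm_num : (4024 : ℕ) < 4060)]
  exact h.1.2

theorem delta_4024 : fp 4024 ∈ mset (tMask 2) := ((mem_three _).1 three_4024).1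

theorem nine_mem_lam {x : Fin 4060} (hx : x ∈ mset (tMask 9)) : x ∈ mset lamMask := by
  show lamMask.testBit x.1 = true
  have h : (tMask 9).testBit x.1 = true := hx
  simp [lamMask, Nat.testBit_or, h]

theorem nine_nonempty : fp (tRoot 9) ∈ mset (tMask 9) := by
  have h := lam_cert
  simp only [Bool.and_eq_true] at h
  show (tMask 9).testBit (fp (tRoot 9)).1 = true
  rw [fp_val (tree_basic (i := 9) (by norm_num)).1]
  exact h.2

theorem R_symm {x y : Fin 4060} (h : R x y) : R y x := by
  refine ⟨h.1.symm, ?_⟩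
  have hsym : ((List.range 28).all fun a => (List.range 28).all fun b =>
      form (2 ^ a) (2 ^ b) == form (2 ^ b) (2 ^ a)) = true := by decide +kernel
  simp only [List.all_eq_true, List.mem_range, beq_iff_eq] at hsym
  have h1 : ∀ a, a < 28 → ∀ v, v < 2 ^ 28 → form (2 ^ a) v = form v (2 ^ a) := fun a ha =>
    xext (fun v => form (2 ^ a) v) (fun v => form v (2 ^ a)) (· ^^ ·) 28
      (fun u v => form_xor_right _ u v) (fun u v => form_xor_left u v _)
      (by simp [form_zero_left, form_zero_right]) (fun b hb => hsym a ha b hb)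
  have h2 : form (pt y.1) (pt x.1) = form (pt x.1) (pt y.1) :=
    xext (fun u => form u (pt x.1)) (fun u => form (pt x.1) u) (· ^^ ·) 28
      (fun u v => form_xor_left u v _) (fun u v => form_xor_right _ u v)
      (by simp [form_zero_left, form_zero_right]) (fun a ha => h1 a ha _ (pt_lt _)) _ (pt_lt _)
  exact h2.trans h.2

theorem R_of_adj {x y : Fin 4060} : adj x.1 y.1 = false ↔ x = y ∨ R x y := by
  constructor
  · intro h
    by_cases e : x = y
    · exact Or.inl e
    · exact Or.inr ⟨e, h⟩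
  · rintro (rfl | h)
    · exact adj_self x
    · exact h.2

theorem gamma_split {x : Fin 4060} (hx : x ∈ mset (tMask 1)) :
    x = fp 4059 ∨ ∃ i ∈ [6, 7, 8, 9], x ∈ mset (tMask i) := by
  have h : (tMask 1).testBit x.1 = true := hx
  rw [← tree_shape.2.2.2.2.2.2.2.2] at h
  simp only [Nat.testBit_or, Bool.or_eq_true] at h
  rcases h with (((h | h) | h) | h) | h
  · exact Or.inr ⟨6, by simp, h⟩
  · exact Or.inr ⟨7, by simp, h⟩
  · exact Or.inr ⟨8, by simp, h⟩
  · exact Or.inr ⟨9, by simp, h⟩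
  · rw [Nat.testBit_two_pow, decide_eq_true_eq] at h
    exact Or.inl (Fin.ext (h.symm.trans (fp_val (by norm_num : (4059 : ℕ) < 4060)).symm))

theorem piece_gamma {i : ℕ} (hi : i ∈ [6, 7, 8, 9]) : mset (tMask i) ⊆ mset (tMask 1) := by
  intro x hx
  have h : (tMask i).testBit x.1 = true := hx
  show (tMask 1).testBit x.1 = true
  rw [← tree_shape.2.2.2.2.2.2.2.2]
  simp only [List.mem_cons, List.not_mem_nil, or_false] at hi
  rcases hi with rfl | rfl | rfl | rfl <;> simp [Nat.testBit_or, h]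

/-- A set which meets some of the pieces only in whole pieces is one of their unions. -/
theorem eq_union {ps : List ℕ} (O : Set (Fin 4060))
    (hsplit : ∀ m ∈ ps, mset m ⊆ O ∨ Disjoint (mset m) O)
    (hcov : ∀ x ∈ O, ∃ m ∈ ps, x ∈ mset m) : ∃ s ∈ ps.sublists, O = mset (orMask s) := by
  classical
  refine ⟨ps.filter fun m => decide (mset m ⊆ O), List.mem_sublists.2 List.filter_sublist, ?_⟩
  ext x
  show x ∈ O ↔ (orMask _).testBit x.1 = true
  rw [testBit_orMask]
  constructor
  · intro hx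
    obtain ⟨m, hm, hxm⟩ := hcov x hx
    refine ⟨m, List.mem_filter.2 ⟨hm, decide_eq_true ?_⟩, hxm⟩
    exact (hsplit m hm).resolve_right fun hd => Set.disjoint_left.1 hd hxm hx
  · rintro ⟨m, hm, hx⟩
    exact of_decide_eq_true (List.mem_filter.1 hm).2 hx

/-- An invariant set of neighbours of the second base point. -/
theorem lam_cases (O : Set (Fin 4060)) (hO : ∀ σ ∈ fix2, ∀ x ∈ O, σ x ∈ O)
    (hsub : ∀ x ∈ O, x ∈ mset (tMask 1) ∧ x ≠ fp 4059) (h256 : O.ncard % 256 = 218) :
    O.ncard = 1754 ∨ (O.ncard = 730 ∧ O = mset lamMask) := by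
  obtain ⟨s, hs, rfl⟩ := eq_union (ps := [tMask 6, tMask 7, tMask 8, tMask 9]) O (fun m hm => by
    obtain ⟨i, hi, rfl⟩ : ∃ i ∈ [6, 7, 8, 9], m = tMask i := by
      simp only [List.mem_cons, List.not_mem_nil, or_false] at hm
      rcases hm with rfl | rfl | rfl | rfl
      exacts [⟨6, by simp, rfl⟩, ⟨7, by simp, rfl⟩, ⟨8, by simp, rfl⟩, ⟨9, by simp, rfl⟩]
    by_cases hd : Disjoint (mset (tMask i)) O
    · exact Or.inr hd
    left
    obtain ⟨y, hy, hyO⟩ := Set.not_disjoint_iff.1 hd
    intro z hz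
    rw [← orbit_fix2_piece hi hy] at hz
    obtain ⟨σ, rfl⟩ := hz
    exact hO σ σ.2 y hyO) (fun x hx => by
    obtain ⟨h1, h2⟩ := hsub x hx
    obtain ⟨i, hi, hxi⟩ := (gamma_split h1).resolve_left h2
    refine ⟨tMask i, ?_, hxi⟩
    simp only [List.mem_cons, List.not_mem_nil, or_false] at hi ⊢
    rcases hi with rfl | rfl | rfl | rfl <;> simp)
  have h := List.all_eq_true.1 pieces_cert s hs
  simp only [ncard_mset] at h256 ⊢
  simp only [Bool.or_eq_true, Bool.and_eq_true, beq_iff_eq, Bool.not_eq_true',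
    beq_eq_false_iff_ne] at h
  rcases h with (h | h) | h
  · exact absurd h256 h
  · exact Or.inl h
  · exact Or.inr ⟨h.2, by rw [h.1]⟩

theorem orbit_ncard_le {S : Subgroup (Equiv.Perm (Fin 4060))} (hS : S ≤ fix2)
    (hc : Nat.card S = 4096) {i : ℕ} (hi : i ∈ [6, 7, 8, 9]) {x : Fin 4060}
    (hx : x ∈ mset (tMask i)) :
    (mset (tMask i)).ncard ≤ 5 * (MulAction.orbit S x).ncard := by
  have h1 := card_eq_orbit_mul S x
  have h2 := card_eq_orbit_mul fix2 x
  rw [orbit_fix2_piece hi hx, card_fix2] at h2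
  rw [hc] at h1
  have h3 : Nat.card ↥(S ⊓ MulAction.stabilizer (Equiv.Perm (Fin 4060)) x) ≤
      Nat.card ↥(fix2 ⊓ MulAction.stabilizer (Equiv.Perm (Fin 4060)) x) :=
    Subgroup.card_le_of_le (inf_le_inf_right _ hS)
  have h4 : 4096 ≤ (MulAction.orbit S x).ncard *
      Nat.card ↥(fix2 ⊓ MulAction.stabilizer (Equiv.Perm (Fin 4060)) x) :=
    le_trans h1.le (Nat.mul_le_mul le_rfl h3)
  have hpos : 0 < Nat.card ↥(fix2 ⊓ MulAction.stabilizer (Equiv.Perm (Fin 4060)) x) := Nat.card_pos
  generalize Nat.card ↥(fix2 ⊓ MulAction.stabilizer (Equiv.Perm (Fin 4060)) x) = k at *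
  by_contra hcon
  have : ((mset (tMask i)).ncard) * k > 5 * (MulAction.orbit S x).ncard * k :=
    Nat.mul_lt_mul_of_pos_right (not_le.1 hcon) hpos
  rw [← h2, mul_assoc] at this
  omega

/-- A subgroup of index 1755 is conjugate to the stabiliser of two points. -/
theorem conj_fix2 {H : Subgroup (Equiv.Perm (Fin 4060))} (hH : H ≤ fix1)
    (hc : Nat.card H = 20480) :
    ∃ σ ∈ fix1, H.map (MulAut.conj σ).toMonoidHom = fix2 := by
  haveI := Fact.mk Nat.prime_two
  have hfac : (Nat.card fix1).factorization 2 = 12 := by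
    rw [card_fix1, show (35942400 : ℕ) = 2 ^ 12 * 8775 by norm_num,
      Nat.factorization_mul (by norm_num) (by norm_num), Nat.factorization_pow]
    simp [Nat.prime_two.factorization_self,
      Nat.factorization_eq_zero_of_not_dvd (show ¬ 2 ∣ 8775 by norm_num)]
  have key : ∀ L : Subgroup (Equiv.Perm (Fin 4060)), L ≤ fix1 → Nat.card L = 20480 →
      ∃ S : Sylow 2 fix1, (S : Subgroup fix1).map fix1.subtype ≤ L := by
    intro L hL hcL
    obtain ⟨T, hT⟩ := Sylow.exists_subgroup_card_pow_prime (G := L) 2 (n := 12)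
      (by rw [hcL]; norm_num)
    refine ⟨Sylow.ofCard (T.map (Subgroup.inclusion hL)) ?_, ?_⟩
    · rw [Subgroup.card_map_of_injective (Subgroup.inclusion_injective hL), hT, hfac]
    · rintro z ⟨y, ⟨w, -, rfl⟩, rfl⟩
      exact w.2
  obtain ⟨S, hSle⟩ := key H hH hc
  obtain ⟨T, hTle⟩ := key fix2 inf_le_left card_fix2
  obtain ⟨σ, hσ⟩ := MulAction.exists_smul_eq fix1 S T
  refine ⟨σ.1, σ.2, ?_⟩
  set H' := H.map (MulAut.conj σ.1).toMonoidHom with hH'
  set T' := (T : Subgroup fix1).map fix1.subtype with hT'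
  have hTH : T' ≤ H' := by
    rintro z ⟨y, hy, rfl⟩
    rw [← hσ] at hy
    obtain ⟨w, hw, rfl⟩ := Subgroup.mem_map.1 hy
    exact Subgroup.mem_map.2 ⟨w.1, hSle ⟨w, hw, rfl⟩, rfl⟩
  have hcT : Nat.card T' = 4096 := by
    rw [hT', Subgroup.card_map_of_injective fix1.subtype_injective, Sylow.card_eq_multiplicity,
      hfac]
    norm_num
  have hcH' : Nat.card H' = 20480 := by
    rw [hH', Subgroup.card_map_of_injective (MulEquiv.injective _), hc]
  have hH'1 : H' ≤ fix1 := by
    rintro z ⟨w, hw, rfl⟩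
    exact mul_mem (mul_mem σ.2 (hH hw)) (inv_mem σ.2)
  set O := MulAction.orbit H' (fp 4059) with hO
  have hOcard : O.ncard ∣ 5 := by
    have h := card_eq_orbit_mul H' (fp 4059)
    rw [hcH'] at h
    have hd : Nat.card T' ∣
        Nat.card ↥(H' ⊓ MulAction.stabilizer (Equiv.Perm (Fin 4060)) (fp 4059)) :=
      Subgroup.card_dvd_of_le (le_inf hTH fun z hz => mem_stab.1 (hTle hz).2)
    obtain ⟨d, hd⟩ := hd
    rw [hcT] at hd
    rw [hd] at h
    refine ⟨d, Nat.eq_of_mul_eq_mul_left (show 0 < 4096 by norm_num) ?_⟩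
    calc 4096 * 5 = 20480 := rfl
      _ = O.ncard * (4096 * d) := h
      _ = 4096 * (O.ncard * d) := by ring
  have hOsub : ∀ x ∈ O, x = fp 4059 ∨ x ∈ mset (tMask 9) := by
    intro x hx
    obtain ⟨τ, rfl⟩ := hx
    have hg : (τ : Equiv.Perm (Fin 4060)) (fp 4059) ∈ mset (tMask 1) := by
      show (tMask 1).testBit _ = true
      rw [pres_tMask1 (hH'1 τ.2)]; exact mem_gamma_4059
    rcases gamma_split hg with h | ⟨i, hi, hxi⟩
    · exact Or.inl h
    · right
      have h5 : (MulAction.orbit T' (τ • fp 4059)).ncard ≤ 5 := by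
        refine le_trans (Set.ncard_le_ncard ?_ (Set.toFinite O)) (Nat.le_of_dvd (by norm_num) hOcard)
        rintro z ⟨t, rfl⟩
        exact ⟨⟨t.1, hTH t.2⟩ * τ, rfl⟩
      have h := orbit_ncard_le hTle hcT hi (x := τ • fp 4059) hxi
      rw [tree_size (by simp at hi; omega)] at h
      simp only [List.mem_cons, List.not_mem_nil, or_false] at hi
      rcases hi with rfl | rfl | rfl | rfl
      · simp at h; omega
      · simp at h; omega
      · simp at h; omega
      · exact hxi
  have hone : O.ncard = 1 := by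
    rcases (Nat.dvd_prime (show Nat.Prime 5 by norm_num)).1 hOcard with h | h
    · exact h
    exfalso
    obtain ⟨y, hy, hyne⟩ := Set.exists_ne_of_one_lt_ncard (show 1 < O.ncard by omega) (fp 4059)
    have hy9 : y ∈ mset (tMask 9) := (hOsub y hy).resolve_left hyne
    have hm := List.all_eq_true.1 mate_cert y.1 (List.mem_filter.2 ⟨List.mem_range.2 y.2, hy9⟩)
    rw [beq_iff_eq, countP_members] at hm
    obtain ⟨τ, rfl⟩ := hy
    have hy1 : (τ • fp 4059) ∈ mset (tMask 1) := piece_gamma (by simp) hy9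
    obtain ⟨hu, hur, -, huinv⟩ := tr_spec (i := 1) (by norm_num) hy1
    rw [tree_shape.2.1.1] at hur
    set u := tr 1 (τ • fp 4059) with hudef
    have hu2 : u⁻¹ * (τ : Equiv.Perm (Fin 4060)) ∈ fix2 := by
      refine ⟨fix1.mul_mem (fix1.inv_mem (tree1_fix1 hu)) (hH'1 τ.2), ?_⟩
      show (u⁻¹ * (τ : Equiv.Perm (Fin 4060))) (fp 4059) = fp 4059
      rw [Equiv.Perm.mul_apply, Equiv.Perm.inv_def, Equiv.symm_apply_eq, hur]
      rfl
    have hsub : O \ {τ • fp 4059, fp 4059} ⊆
        (Finset.univ.filter fun x : Fin 4060 => (tMask 9).testBit x.1 = true ∧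
          (tMask 9).testBit (trInv 1 (tFuel 1) (τ • fp 4059).1 x.1) = true :
            Finset (Fin 4060)) := by
      intro x hx
      obtain ⟨hxO, hxne⟩ := hx
      simp only [Set.mem_insert_iff, Set.mem_singleton_iff, not_or] at hxne
      have hx9 := (hOsub x hxO).resolve_left hxne.2
      have hz : τ⁻¹ • x ∈ O := by
        obtain ⟨t, rfl⟩ := hxO
        exact ⟨τ⁻¹ * t, mul_smul _ _ _⟩
      have hz9 := (hOsub _ hz).resolve_left fun he => hxne.1 (by rw [← he, smul_inv_smul])
      have hp : (tMask 9).testBit ((u⁻¹ * (τ : Equiv.Perm (Fin 4060))) (τ⁻¹ • x)).1 = true := by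
        rw [pres_fix2 (by simp) hu2]; exact hz9
      have e : (τ : Equiv.Perm (Fin 4060)) (τ⁻¹ • x) = x := smul_inv_smul τ x
      rw [Equiv.Perm.mul_apply, e, huinv] at hp
      simp only [Finset.coe_filter, Finset.mem_univ, true_and, Set.mem_setOf_eq]
      exact ⟨hx9, hp⟩
    have hle := Set.ncard_le_ncard hsub (Finset.finite_toSet _)
    rw [Set.ncard_coe_finset, hm] at hle
    have := Set.ncard_le_ncard_sdiff_add_ncard O {τ • fp 4059, fp 4059} (Set.toFinite _)
    have h2 := Set.ncard_insert_le (τ • fp 4059) {fp 4059}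
    rw [Set.ncard_singleton] at h2
    omega
  refine Subgroup.eq_of_le_of_card_ge (fun z hz => ⟨hH'1 hz, ?_⟩) (by rw [hcH', card_fix2])
  obtain ⟨a, ha⟩ := Set.ncard_eq_one.1 hone
  have e1 : fp 4059 ∈ O := MulAction.mem_orbit_self _
  have e2 : z (fp 4059) ∈ O := ⟨⟨z, hz⟩, rfl⟩
  rw [ha, Set.mem_singleton_iff] at e1 e2
  show z (fp 4059) = fp 4059
  rw [e2, e1]

end Cfsg.Agent.H90.Rudv
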