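import Cfsg.Agent.H90.Rudv.HomDefs

/-!
Checks of generators of the twisted group on the Rudvalis graph (part 0).
-/

set_option autoImplicit false
set_option maxRecDepth 20000
set_option Elab.async false

namespace Cfsg.Agent.H90.Rudv

theorem vtx_cert : vtxOK = true := by decide +kernel

theorem wtab_cert0_0 : wTabOK 0 0 = true := by decide +kernel

theorem wtab_cert0_1 : wTabOK 0 1015 = true := by decide +kernel

theorem wtab_cert0_2 : wTabOK 0 2030 = true := by decide +kernel

theorem wtab_cert0_3 : wTabOK 0 3045 = true := by decide +kernel

theorem wform_cert0 : wFormOK 0 = true := by decide +kernel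

theorem wact_cert0_0 : wActOK 0 0 = true := by decide +kernel

theorem wact_cert0_1 : wActOK 0 351 = true := by decide +kernel

theorem wact_cert0_2 : wActOK 0 702 = true := by decide +kernel

theorem wact_cert0_3 : wActOK 0 1053 = true := by decide +kernel

theorem wact_cert0_4 : wActOK 0 1404 = true := by decide +kernel

theorem wtab_cert1_0 : wTabOK 1 0 = true := by decide +kernel

theorem wtab_cert1_1 : wTabOK 1 1015 = true := by decide +kernel

theorem wtab_cert1_2 : wTabOK 1 2030 = true := by decide +kernel

theorem wtab_cert1_3 : wTabOK 1 3045 = true := by decide +kernel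

theorem wform_cert1 : wFormOK 1 = true := by decide +kernel

theorem wact_cert1_0 : wActOK 1 0 = true := by decide +kernel

theorem wact_cert1_1 : wActOK 1 351 = true := by decide +kernel

theorem wact_cert1_2 : wActOK 1 702 = true := by decide +kernel

theorem wact_cert1_3 : wActOK 1 1053 = true := by decide +kernel

theorem wact_cert1_4 : wActOK 1 1404 = true := by decide +kernel

end Cfsg.Agent.H90.Rudv
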