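import Cfsg.Agent.H90.Rudv.HomDefs

/-!
Checks of generators of the twisted group on the Rudvalis graph (part 1).
-/

set_option autoImplicit false
set_option maxRecDepth 20000
set_option Elab.async false

namespace Cfsg.Agent.H90.Rudv

theorem wtab_cert2_0 : wTabOK 2 0 = true := by decide +kernel

theorem wtab_cert2_1 : wTabOK 2 1015 = true := by decide +kernel

theorem wtab_cert2_2 : wTabOK 2 2030 = true := by decide +kernel

theorem wtab_cert2_3 : wTabOK 2 3045 = true := by decide +kernel

theorem wform_cert2 : wFormOK 2 = true := by decide +kernel

theorem wact_cert2_0 : wActOK 2 0 = true := by decide +kernel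

theorem wact_cert2_1 : wActOK 2 351 = true := by decide +kernel

theorem wact_cert2_2 : wActOK 2 702 = true := by decide +kernel

theorem wact_cert2_3 : wActOK 2 1053 = true := by decide +kernel

theorem wact_cert2_4 : wActOK 2 1404 = true := by decide +kernel

theorem wtab_cert3_0 : wTabOK 3 0 = true := by decide +kernel

theorem wtab_cert3_1 : wTabOK 3 1015 = true := by decide +kernel

theorem wtab_cert3_2 : wTabOK 3 2030 = true := by decide +kernel

theorem wtab_cert3_3 : wTabOK 3 3045 = true := by decide +kernel

theorem wform_cert3 : wFormOK 3 = true := by decide +kernel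

theorem wact_cert3_0 : wActOK 3 0 = true := by decide +kernel

theorem wact_cert3_1 : wActOK 3 351 = true := by decide +kernel

theorem wact_cert3_2 : wActOK 3 702 = true := by decide +kernel

theorem wact_cert3_3 : wActOK 3 1053 = true := by decide +kernel

theorem wact_cert3_4 : wActOK 3 1404 = true := by decide +kernel

end Cfsg.Agent.H90.Rudv
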