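import Cfsg.Agent.H90.Rudv.HomDefs

/-!
Checks of generators of the twisted group on the Rudvalis graph (part 2).
-/

set_option autoImplicit false
set_option maxRecDepth 20000
set_option Elab.async false

namespace Cfsg.Agent.H90.Rudv

theorem wtab_cert4_0 : wTabOK 4 0 = true := by decide +kernel

theorem wtab_cert4_1 : wTabOK 4 1015 = true := by decide +kernel

theorem wtab_cert4_2 : wTabOK 4 2030 = true := by decide +kernel

theorem wtab_cert4_3 : wTabOK 4 3045 = true := by decide +kernel

theorem wform_cert4 : wFormOK 4 = true := by decide +kernel

theorem wact_cert4_0 : wActOK 4 0 = true := by decide +kernel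

theorem wact_cert4_1 : wActOK 4 351 = true := by decide +kernel

theorem wact_cert4_2 : wActOK 4 702 = true := by decide +kernel

theorem wact_cert4_3 : wActOK 4 1053 = true := by decide +kernel

theorem wact_cert4_4 : wActOK 4 1404 = true := by decide +kernel

theorem wtab_cert5_0 : wTabOK 5 0 = true := by decide +kernel

theorem wtab_cert5_1 : wTabOK 5 1015 = true := by decide +kernel

theorem wtab_cert5_2 : wTabOK 5 2030 = true := by decide +kernel

theorem wtab_cert5_3 : wTabOK 5 3045 = true := by decide +kernel

theorem wform_cert5 : wFormOK 5 = true := by decide +kernel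

theorem wact_cert5_0 : wActOK 5 0 = true := by decide +kernel

theorem wact_cert5_1 : wActOK 5 351 = true := by decide +kernel

theorem wact_cert5_2 : wActOK 5 702 = true := by decide +kernel

theorem wact_cert5_3 : wActOK 5 1053 = true := by decide +kernel

theorem wact_cert5_4 : wActOK 5 1404 = true := by decide +kernel

end Cfsg.Agent.H90.Rudv
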