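import Cfsg.Agent.H90.Rudv.HomDefs

/-!
Checks of generators of the twisted group on the Rudvalis graph (part 3).
-/

set_option autoImplicit false
set_option maxRecDepth 20000
set_option Elab.async false

namespace Cfsg.Agent.H90.Rudv

theorem wtab_cert6_0 : wTabOK 6 0 = true := by decide +kernel

theorem wtab_cert6_1 : wTabOK 6 1015 = true := by decide +kernel

theorem wtab_cert6_2 : wTabOK 6 2030 = true := by decide +kernel

theorem wtab_cert6_3 : wTabOK 6 3045 = true := by decide +kernel

theorem wform_cert6 : wFormOK 6 = true := by decide +kernel

theorem wact_cert6_0 : wActOK 6 0 = true := by decide +kernel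

theorem wact_cert6_1 : wActOK 6 351 = true := by decide +kernel

theorem wact_cert6_2 : wActOK 6 702 = true := by decide +kernel

theorem wact_cert6_3 : wActOK 6 1053 = true := by decide +kernel

theorem wact_cert6_4 : wActOK 6 1404 = true := by decide +kernel

theorem wtab_cert7_0 : wTabOK 7 0 = true := by decide +kernel

theorem wtab_cert7_1 : wTabOK 7 1015 = true := by decide +kernel

theorem wtab_cert7_2 : wTabOK 7 2030 = true := by decide +kernel

theorem wtab_cert7_3 : wTabOK 7 3045 = true := by decide +kernel

theorem wform_cert7 : wFormOK 7 = true := by decide +kernel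

theorem wact_cert7_0 : wActOK 7 0 = true := by decide +kernel

theorem wact_cert7_1 : wActOK 7 351 = true := by decide +kernel

theorem wact_cert7_2 : wActOK 7 702 = true := by decide +kernel

theorem wact_cert7_3 : wActOK 7 1053 = true := by decide +kernel

theorem wact_cert7_4 : wActOK 7 1404 = true := by decide +kernel

end Cfsg.Agent.H90.Rudv
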