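import Cfsg.Agent.PGroups.RuPermDefs
import Cfsg.Agent.H90.Rudv.DataHom

/-!
Checks for the action of the twisted group on 1755 vectors inside the Rudvalis graph.
-/

set_option autoImplicit false
set_option maxRecDepth 20000

namespace Cfsg.Agent.H90.Rudv

open Cfsg.Agent.PGroups.Ru

/-- A vector. -/
def vec (i : ℕ) : ℕ := (vecPack >>> (52 * i)) % 4503599627370496

/-- The vertex of a vector. -/
def vtx (i : ℕ) : ℕ := tget vtxPack i

/-- The vector of a vertex. -/
def vpos (x : ℕ) : ℕ := tget posPack x

/-- The columns of a root matrix. -/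
def colsOf (r : ℕ) : List ℕ := ((rootCols.find? fun e => e.1 == r).getD (0, [])).2

/-- A row of the generators. -/
def wRow (k : ℕ) : List ℕ × ℕ × ℕ × List ℕ := wordData.getD k ([], 0, 0, [])

/-- A word applied to a packed vector. -/
def wordApp (w : List ℕ) (v : ℕ) : ℕ := w.foldr (fun r acc => lin (colsOf r) acc) v

/-- The vertices of the vectors match. -/
def vtxOK : Bool :=
  ((List.range 1755).all fun i => decide (vtx i < 4060) && (tMask 1).testBit (vtx i) &&
    vpos (vtx i) == i) &&
  ((List.range 4060).all fun x => !(tMask 1).testBit x ||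
    (decide (vpos x < 1755) && vtx (vpos x) == x)) &&
  (List.range 52).all fun a => ((spanCert.getD a []).all fun i => decide (i < 1755)) &&
    ((spanCert.getD a []).foldr (fun i acc => vec i ^^^ acc) 0 == 2 ^ a)

/-- The tables of a generator are permutations given by a matrix. -/
def wTabOK (k lo : ℕ) : Bool :=
  let s := wRow k
  (List.range 1015).all fun i =>
    let j := lo + i
    decide (tget s.2.1 j < 4060) && decide (tget s.2.2.1 j < 4060) &&
      tget s.2.2.1 (tget s.2.1 j) == j && tget s.2.1 (tget s.2.2.1 j) == j &&
      pt (tget s.2.1 j) == lin s.2.2.2 (pt j)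

/-- The matrix of a generator preserves the form and the first point. -/
def wFormOK (k : ℕ) : Bool :=
  let s := wRow k
  (tget s.2.1 0 == 0) &&
  (List.range 28).all fun a => (List.range 28).all fun b =>
    form (lin s.2.2.2 (2 ^ a)) (lin s.2.2.2 (2 ^ b)) == form (2 ^ a) (2 ^ b)

/-- A generator moves the vectors as it moves their vertices. -/
def wActOK (k lo : ℕ) : Bool :=
  let s := wRow k
  (List.range 351).all fun j =>
    let i := lo + j
    wordApp s.1 (vec i) == vec (vpos (tget s.2.1 (vtx i)))

end Cfsg.Agent.H90.Rudv
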