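import Cfsg.Prelude.Def_LieTwisted
import Cfsg.Agent.H90.Rudv.HomDefs

/-!
The root matrices of the twisted group as maps of packed vectors.
-/

set_option autoImplicit false
set_option maxRecDepth 20000
set_option Elab.async false

namespace Cfsg.Agent.H90.Rudv

open Cfsg.Lie Cfsg.Agent.PGroups.Ru

/-- The coordinate vectors of the Lie algebra over the field with two elements. -/
abbrev LV : Type := chevF4.Idx → ZMod 2

/-- The number of a coordinate. -/
def coord : chevF4.Idx → ℕ
  | Sum.inl i => i.val
  | Sum.inr s => 4 + s.val

/-- A packed vector as a vector. -/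
def toVec (v : ℕ) : LV := fun i => if v.testBit (coord i) then 1 else 0

/-- A root is listed with the columns of its matrix. -/
def rootOK (r : ℕ) : Bool :=
  decide (r < 48) && (decide (∀ p : chevF4.Idx × chevF4.Idx,
    chevF4.x (ZMod 2) r 0 p.1 p.2 = if p.1 = p.2 then 1 else 0)) &&
  (decide (∀ p : chevF4.Idx × chevF4.Idx, chevF4.x (ZMod 2) r 1 p.1 p.2 =
    if ((colsOf r).getD (coord p.2) 0).testBit (coord p.1) then 1 else 0)) &&
  ((List.range 52).all fun a => lin (colsOf r) (2 ^ a) == (colsOf r).getD a 0) &&
  (colsOf r).all fun c => decide (c < 4503599627370496)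

theorem root_cert33 : rootOK 33 = true := by decide +kernel

theorem root_cert24 : rootOK 24 = true := by decide +kernel

theorem root_cert14 : rootOK 14 = true := by decide +kernel

theorem root_cert23 : rootOK 23 = true := by decide +kernel

theorem root_cert27 : rootOK 27 = true := by decide +kernel

theorem root_cert25 : rootOK 25 = true := by decide +kernel

theorem root_cert28 : rootOK 28 = true := by decide +kernel

theorem root_cert30 : rootOK 30 = true := by decide +kernel

theorem root_cert20 : rootOK 20 = true := by decide +kernel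

theorem root_cert22 : rootOK 22 = true := by decide +kernel

theorem root_cert19 : rootOK 19 = true := by decide +kernel

theorem root_cert17 : rootOK 17 = true := by decide +kernel

theorem root_cert {r : ℕ} (hr : r ∈ [33, 24, 14, 23, 27, 25, 28, 30, 20, 22, 19, 17]) :
    rootOK r = true := by
  simp only [List.mem_cons, List.not_mem_nil, or_false] at hr
  rcases hr with rfl | rfl | rfl | rfl | rfl | rfl | rfl | rfl | rfl | rfl | rfl | rfl
  exacts [root_cert33, root_cert24, root_cert14, root_cert23, root_cert27, root_cert25,
    root_cert28, root_cert30, root_cert20, root_cert22, root_cert19, root_cert17]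

theorem toVec_xor (a b : ℕ) : toVec (a ^^^ b) = toVec a + toVec b := by
  funext i
  simp only [toVec, Pi.add_apply, Nat.testBit_xor]
  cases a.testBit (coord i) <;> cases b.testBit (coord i) <;> simp <;> rfl

theorem toVec_zero : toVec 0 = 0 := by funext i; simp [toVec]

theorem coord_inj : Function.Injective coord := by
  intro a b h
  rcases a with a | a <;> rcases b with b | b <;> simp only [coord] at h
  · exact congrArg Sum.inl (Fin.ext h)
  · have := a.2; simp only [show chevF4.rank = 4 from rfl] at this; omega
  · have := b.2; simp only [show chevF4.rank = 4 from rfl] at this; omega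
  · exact congrArg Sum.inr (Fin.ext (by omega))

theorem coord_surj : ∀ a, a < 52 → ∃ i : chevF4.Idx, coord i = a := by
  intro a ha
  by_cases h : a < 4
  · exact ⟨Sum.inl ⟨a, h⟩, rfl⟩
  · exact ⟨Sum.inr ⟨a - 4, by show a - 4 < 48; omega⟩, by simp only [coord]; omega⟩

theorem mulVec_root {r : ℕ} (hr : rootOK r = true) {v : ℕ} (hv : v < 2 ^ 52) :
    (chevF4.x (ZMod 2) r 1).mulVec (toVec v) = toVec (lin (colsOf r) v) := by
  simp only [rootOK, Bool.and_eq_true, decide_eq_true_eq, List.all_eq_true, List.mem_range,
    beq_iff_eq] at hr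
  obtain ⟨⟨⟨⟨-, -⟩, h1⟩, hl⟩, -⟩ := hr
  refine xext (fun v => (chevF4.x (ZMod 2) r 1).mulVec (toVec v))
    (fun v => toVec (lin (colsOf r) v)) (· + ·) 52
    (fun a b => by simp only [toVec_xor, Matrix.mulVec_add])
    (fun a b => by simp only [lin_xor, toVec_xor])
    (by simp [toVec_zero, lin_zero]) (fun a ha => ?_) v hv
  obtain ⟨c, hc⟩ := coord_surj a ha
  have hs : toVec (2 ^ a) = Pi.single c 1 := by
    funext i
    simp only [toVec, Nat.testBit_two_pow, Pi.single_apply, decide_eq_true_eq]
    exact if_congr ⟨fun h => coord_inj (h.symm.trans hc.symm), fun h => by rw [h, hc]⟩ rfl rfl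
  funext i
  rw [hs, Matrix.mulVec_single_one, Matrix.col_apply, hl a ha, h1 (i, c), hc]
  rfl

theorem root_lt {r : ℕ} (hr : rootOK r = true) (v : ℕ) : lin (colsOf r) v < 2 ^ 52 := by
  simp only [rootOK, Bool.and_eq_true, decide_eq_true_eq, List.all_eq_true, beq_iff_eq] at hr
  exact lin_lt _ (fun c hc => by have := hr.2 c hc; norm_num; exact this) v

theorem root_zero {r : ℕ} (hr : rootOK r = true) : chevF4.x (ZMod 2) r 0 = 1 := by
  simp only [rootOK, Bool.and_eq_true, decide_eq_true_eq] at hr
  ext i j
  rw [hr.1.1.1.2 (i, j), Matrix.one_apply]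

end Cfsg.Agent.H90.Rudv
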