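import Cfsg.Agent.H90.Rudv.Model
import Cfsg.Agent.H90.Rudv.HomMat
import Cfsg.Agent.H90.Rudv.HomCert0
import Cfsg.Agent.H90.Rudv.HomCert1
import Cfsg.Agent.H90.Rudv.HomCert2
import Cfsg.Agent.H90.Rudv.HomCert3
import Cfsg.Agent.H40.Tits.Main

/-!
The stabiliser of a point of the Rudvalis graph is the twisted group of type F4 over the field
with two elements.
-/

set_option autoImplicit false
set_option maxRecDepth 20000

namespace Cfsg.Agent.H90.Rudv

open Cfsg.Lie Cfsg.Agent.PGroups.Ru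

theorem wTab_all {k : ℕ} (hk : k < 8) {j : ℕ} (hj : j < 4060) :
    tget (wRow k).2.1 j < 4060 ∧ tget (wRow k).2.2.1 j < 4060 ∧
      tget (wRow k).2.2.1 (tget (wRow k).2.1 j) = j ∧
      tget (wRow k).2.1 (tget (wRow k).2.2.1 j) = j ∧
      pt (tget (wRow k).2.1 j) = lin (wRow k).2.2.2 (pt j) := by
  have key : ∀ lo, wTabOK k lo = true → lo ≤ j → j < lo + 1015 →
      tget (wRow k).2.1 j < 4060 ∧ tget (wRow k).2.2.1 j < 4060 ∧
        tget (wRow k).2.2.1 (tget (wRow k).2.1 j) = j ∧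
        tget (wRow k).2.1 (tget (wRow k).2.2.1 j) = j ∧
        pt (tget (wRow k).2.1 j) = lin (wRow k).2.2.2 (pt j) := by
    intro lo h h1 h2
    obtain ⟨i, rfl⟩ := Nat.exists_eq_add_of_le h1
    simp only [wTabOK, Bool.and_eq_true, List.all_eq_true, List.mem_range, beq_iff_eq,
      decide_eq_true_eq] at h
    obtain ⟨⟨⟨⟨a, b⟩, c⟩, d⟩, e⟩ := h i (by omega)
    exact ⟨a, b, c, d, e⟩
  have hs : wTabOK k 0 = true ∧ wTabOK k 1015 = true ∧ wTabOK k 2030 = true ∧
      wTabOK k 3045 = true := by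
    interval_cases k
    · exact ⟨wtab_cert0_0, wtab_cert0_1, wtab_cert0_2, wtab_cert0_3⟩
    · exact ⟨wtab_cert1_0, wtab_cert1_1, wtab_cert1_2, wtab_cert1_3⟩
    · exact ⟨wtab_cert2_0, wtab_cert2_1, wtab_cert2_2, wtab_cert2_3⟩
    · exact ⟨wtab_cert3_0, wtab_cert3_1, wtab_cert3_2, wtab_cert3_3⟩
    · exact ⟨wtab_cert4_0, wtab_cert4_1, wtab_cert4_2, wtab_cert4_3⟩
    · exact ⟨wtab_cert5_0, wtab_cert5_1, wtab_cert5_2, wtab_cert5_3⟩
    · exact ⟨wtab_cert6_0, wtab_cert6_1, wtab_cert6_2, wtab_cert6_3⟩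
    · exact ⟨wtab_cert7_0, wtab_cert7_1, wtab_cert7_2, wtab_cert7_3⟩
  rcases Nat.lt_or_ge j 1015 with h0 | h0
  · exact key 0 hs.1 (by omega) (by omega)
  rcases Nat.lt_or_ge j 2030 with h1 | h1
  · exact key _ hs.2.1 (by omega) (by omega)
  rcases Nat.lt_or_ge j 3045 with h2 | h2
  · exact key _ hs.2.2.1 (by omega) (by omega)
  exact key _ hs.2.2.2 (by omega) (by omega)

theorem wAct_all {k : ℕ} (hk : k < 8) {i : ℕ} (hi : i < 1755) :
    wordApp (wRow k).1 (vec i) = vec (vpos (tget (wRow k).2.1 (vtx i))) := by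
  have key : ∀ lo, wActOK k lo = true → lo ≤ i → i < lo + 351 →
      wordApp (wRow k).1 (vec i) = vec (vpos (tget (wRow k).2.1 (vtx i))) := by
    intro lo h h1 h2
    obtain ⟨j, rfl⟩ := Nat.exists_eq_add_of_le h1
    simp only [wActOK, List.all_eq_true, List.mem_range, beq_iff_eq] at h
    exact h j (by omega)
  have hs : wActOK k 0 = true ∧ wActOK k 351 = true ∧ wActOK k 702 = true ∧
      wActOK k 1053 = true ∧ wActOK k 1404 = true := by
    interval_cases k
    · exact ⟨wact_cert0_0, wact_cert0_1, wact_cert0_2, wact_cert0_3,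
        wact_cert0_4⟩
    · exact ⟨wact_cert1_0, wact_cert1_1, wact_cert1_2, wact_cert1_3,
        wact_cert1_4⟩
    · exact ⟨wact_cert2_0, wact_cert2_1, wact_cert2_2, wact_cert2_3,
        wact_cert2_4⟩
    · exact ⟨wact_cert3_0, wact_cert3_1, wact_cert3_2, wact_cert3_3,
        wact_cert3_4⟩
    · exact ⟨wact_cert4_0, wact_cert4_1, wact_cert4_2, wact_cert4_3,
        wact_cert4_4⟩
    · exact ⟨wact_cert5_0, wact_cert5_1, wact_cert5_2, wact_cert5_3,
        wact_cert5_4⟩
    · exact ⟨wact_cert6_0, wact_cert6_1, wact_cert6_2, wact_cert6_3,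
        wact_cert6_4⟩
    · exact ⟨wact_cert7_0, wact_cert7_1, wact_cert7_2, wact_cert7_3,
        wact_cert7_4⟩
  rcases Nat.lt_or_ge i 351 with h0 | h0
  · exact key 0 hs.1 (by omega) (by omega)
  rcases Nat.lt_or_ge i 702 with h1 | h1
  · exact key _ hs.2.1 (by omega) (by omega)
  rcases Nat.lt_or_ge i 1053 with h2 | h2
  · exact key _ hs.2.2.1 (by omega) (by omega)
  rcases Nat.lt_or_ge i 1404 with h3 | h3
  · exact key _ hs.2.2.2.1 (by omega) (by omega)
  exact key _ hs.2.2.2.2 (by omega) (by omega)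

theorem wForm_all {k : ℕ} (hk : k < 8) : wFormOK k = true := by
  interval_cases k
  exacts [wform_cert0, wform_cert1, wform_cert2, wform_cert3, wform_cert4, wform_cert5,
    wform_cert6, wform_cert7]

/-- The permutation of a generator of the twisted group. -/
def wPerm (k : ℕ) : Equiv.Perm (Fin 4060) :=
  if hk : k < 8 then
    { toFun := fun j => ⟨tget (wRow k).2.1 j.1, (wTab_all hk j.2).1⟩
      invFun := fun j => ⟨tget (wRow k).2.2.1 j.1, (wTab_all hk j.2).2.1⟩
      left_inv := fun j => Fin.ext (wTab_all hk j.2).2.2.1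
      right_inv := fun j => Fin.ext (wTab_all hk j.2).2.2.2.1 }
  else 1

theorem wPerm_val {k : ℕ} (hk : k < 8) (j : Fin 4060) :
    (wPerm k j).1 = tget (wRow k).2.1 j.1 := by rw [wPerm, dif_pos hk]; rfl

theorem wPerm_mem {k : ℕ} (hk : k < 8) : wPerm k ∈ fix1 := by
  have hf := wForm_all hk
  simp only [wFormOK, Bool.and_eq_true, List.all_eq_true, List.mem_range, beq_iff_eq] at hf
  refine mem_fix1_iff.2 ⟨fun i j => ?_, Fin.ext ?_⟩
  · set M := (wRow k).2.2.2
    have hr : ∀ x : Fin 4060, pt (wPerm k x).1 = lin M (pt x.1) := fun x => by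
      rw [wPerm_val hk]; exact (wTab_all hk x.2).2.2.2.2
    simp only [adj, hr]
    have h1 : ∀ a, a < 28 → ∀ v, v < 2 ^ 28 →
        form (lin M (2 ^ a)) (lin M v) = form (2 ^ a) v := fun a ha =>
      xext (fun v => form (lin M (2 ^ a)) (lin M v)) (fun v => form (2 ^ a) v) (· ^^ ·) 28
        (fun u v => by simp only [lin_xor, form_xor_right]) (fun u v => form_xor_right _ u v)
        (by simp [lin_zero, form_zero_right]) (fun b hb => hf.2 a ha b hb)
    exact xext (fun u => form (lin M u) (lin M (pt j.1))) (fun u => form u (pt j.1)) (· ^^ ·) 28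
      (fun u v => by simp only [lin_xor, form_xor_left]) (fun u v => form_xor_left u v _)
      (by simp [lin_zero, form_zero_left]) (fun a ha => h1 a ha _ (pt_lt _)) _ (pt_lt _)
  · rw [wPerm_val hk, fp_val (by norm_num : 0 < 4060)]; exact hf.1

/-- The vector of a neighbour of the first point. -/
def gv (x : Fin 4060) : LV := toVec (vec (vpos x.1))

/-- A matrix and a permutation agree on the neighbours of the first point. -/
def Rel (g : GL chevF4.Idx (ZMod 2)) (σ : Equiv.Perm (Fin 4060)) : Prop :=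
  ∀ x ∈ mset (tMask 1), (g : Matrix chevF4.Idx chevF4.Idx (ZMod 2)).mulVec (gv x) = gv (σ x)

theorem rel_one : Rel 1 1 := fun x _ => by simp [Matrix.one_mulVec]

theorem rel_mul {g g' : GL chevF4.Idx (ZMod 2)} {σ σ' : Equiv.Perm (Fin 4060)}
    (h : Rel g σ) (h' : Rel g' σ') (hσ' : σ' ∈ fix1) : Rel (g * g') (σ * σ') := fun x hx => by
  rw [Units.val_mul, ← Matrix.mulVec_mulVec, h' x hx, h (σ' x) (by
    show (tMask 1).testBit (σ' x).1 = true
    rw [pres_tMask1 hσ']; exact hx)]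
  rfl

theorem vtx_facts :
    (∀ i, i < 1755 → vtx i < 4060 ∧ (tMask 1).testBit (vtx i) = true ∧ vpos (vtx i) = i) ∧
    (∀ x, x < 4060 → (tMask 1).testBit x = true → vpos x < 1755 ∧ vtx (vpos x) = x) ∧
    ∀ a, a < 52 → (∀ i ∈ spanCert.getD a [], i < 1755) ∧
      (spanCert.getD a []).foldr (fun i acc => vec i ^^^ acc) 0 = 2 ^ a := by
  have h := vtx_cert
  simp only [vtxOK, Bool.and_eq_true, List.all_eq_true, List.mem_range, beq_iff_eq,
    decide_eq_true_eq, Bool.or_eq_true, Bool.not_eq_true'] at h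
  obtain ⟨⟨h1, h2⟩, h3⟩ := h
  refine ⟨fun i hi => ⟨(h1 i hi).1.1, (h1 i hi).1.2, (h1 i hi).2⟩, fun x hx hb => ?_, h3⟩
  exact (h2 x hx).resolve_left (by rw [hb]; simp)

theorem rel_unique {g g' : GL chevF4.Idx (ZMod 2)} {σ : Equiv.Perm (Fin 4060)}
    (h : Rel g σ) (h' : Rel g' σ) : g = g' := by
  apply Units.ext
  obtain ⟨hv, -, hs⟩ := vtx_facts
  have key : ∀ l : List ℕ, (∀ i ∈ l, i < 1755) →
      (g : Matrix chevF4.Idx chevF4.Idx (ZMod 2)).mulVec
          (toVec (l.foldr (fun i acc => vec i ^^^ acc) 0)) =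
        (g' : Matrix chevF4.Idx chevF4.Idx (ZMod 2)).mulVec
          (toVec (l.foldr (fun i acc => vec i ^^^ acc) 0)) := by
    intro l
    induction l with
    | nil => intro _; simp [toVec_zero]
    | cons i l ih =>
      intro hl
      obtain ⟨h1, h2, h3⟩ := hv i (hl i List.mem_cons_self)
      have hi : gv (fp (vtx i)) = toVec (vec i) := by rw [gv, fp_val h1, h3]
      have hm : fp (vtx i) ∈ mset (tMask 1) := by
        show (tMask 1).testBit (fp (vtx i)).1 = true
        rw [fp_val h1]; exact h2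
      rw [List.foldr_cons, toVec_xor, Matrix.mulVec_add, Matrix.mulVec_add,
        ih fun a ha => hl a (List.mem_cons_of_mem _ ha), ← hi, h _ hm, h' _ hm]
  ext i c
  have hc : coord c < 52 := by
    rcases c with a | a
    · exact lt_of_lt_of_le a.2 (show chevF4.rank ≤ 52 by decide)
    · have := a.2
      simp only [show chevF4.nroots = 48 from rfl] at this
      show 4 + a.val < 52; omega
  have hs' : toVec (2 ^ coord c) = Pi.single c 1 := by
    funext j
    simp only [toVec, Nat.testBit_two_pow, Pi.single_apply, decide_eq_true_eq]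
    exact if_congr ⟨fun hh => (coord_inj hh).symm, fun hh => by rw [hh]⟩ rfl rfl
  have h1 := key _ (hs _ hc).1
  rw [(hs _ hc).2, hs', Matrix.mulVec_single_one, Matrix.mulVec_single_one] at h1
  exact congrFun h1 i

/-- Matrices which act on the vectors as a permutation in the stabiliser of the first point. -/
def relGrp : Subgroup (GL chevF4.Idx (ZMod 2)) where
  carrier := {g | ∃ σ ∈ fix1, Rel g σ}
  one_mem' := ⟨1, one_mem _, rel_one⟩
  mul_mem' := fun ⟨σ, hσ, h⟩ ⟨σ', hσ', h'⟩ => ⟨σ * σ', mul_mem hσ hσ', rel_mul h h' hσ'⟩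
  inv_mem' := fun {g} ⟨σ, hσ, h⟩ => by
    refine ⟨σ⁻¹, inv_mem hσ, fun x hx => ?_⟩
    have hx' : σ⁻¹ x ∈ mset (tMask 1) := by
      show (tMask 1).testBit (σ⁻¹ x).1 = true
      rw [pres_tMask1 (inv_mem hσ)]; exact hx
    have h1 := h _ hx'
    rw [Equiv.Perm.inv_def, Equiv.apply_symm_apply] at h1
    rw [← h1, Matrix.mulVec_mulVec, ← Units.val_mul, inv_mul_cancel, Units.val_one,
      Matrix.one_mulVec]
    rfl

theorem wWord0 : (wRow 0).1 = [33, 24] := rfl

theorem wWord1 : (wRow 1).1 = [14, 23] := rfl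

theorem wWord2 : (wRow 2).1 = [27, 25, 28] := rfl

theorem wWord3 : (wRow 3).1 = [27, 25, 30] := rfl

theorem wWord4 : (wRow 4).1 = [28, 30] := rfl

theorem wWord5 : (wRow 5).1 = [20, 22, 19] := rfl

theorem wWord6 : (wRow 6).1 = [20, 22, 17] := rfl

theorem wWord7 : (wRow 7).1 = [19, 17] := rfl

theorem root_ok {k : ℕ} (hk : k < 8) {r : ℕ} (hr : r ∈ (wRow k).1) : rootOK r = true := by
  refine root_cert ?_
  interval_cases k <;>
    simp [wWord0, wWord1, wWord2, wWord3, wWord4, wWord5, wWord6, wWord7] at hr ⊢ <;> tauto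

theorem wordMat_ones (w : List ℕ) (hw : ∀ r ∈ w, rootOK r = true) (v : ℕ) (hv : v < 2 ^ 52) :
    wordApp w v < 2 ^ 52 ∧
    (chevF4.wordMat (ZMod 2) (w.map fun r => (r, 1))).mulVec (toVec v) = toVec (wordApp w v) := by
  induction w with
  | nil => exact ⟨hv, by simp [ChevalleyDatum.wordMat, wordApp]⟩
  | cons r w ih =>
    have hr := hw r List.mem_cons_self
    obtain ⟨hlt, he⟩ := ih fun a ha => hw a (List.mem_cons_of_mem _ ha)
    refine ⟨root_lt hr _, ?_⟩
    simp only [List.map_cons, ChevalleyDatum.wordMat, List.prod_cons]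
    rw [← Matrix.mulVec_mulVec]
    simp only [ChevalleyDatum.wordMat] at he
    rw [he, mulVec_root hr hlt]
    rfl

theorem vec_lt (i : ℕ) : vec i < 2 ^ 52 := Nat.mod_lt _ (by norm_num)

theorem mem_relGrp_gen {g : GL chevF4.Idx (ZMod 2)} {k : ℕ} (hk : k < 8)
    (hg : (g : Matrix chevF4.Idx chevF4.Idx (ZMod 2)) =
      chevF4.wordMat (ZMod 2) ((wRow k).1.map fun r => (r, 1))) : g ∈ relGrp := by
  refine ⟨wPerm k, wPerm_mem hk, fun x hx => ?_⟩
  obtain ⟨-, hp, -⟩ := vtx_facts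
  obtain ⟨hp1, hp2⟩ := hp x.1 x.2 hx
  have h1 := (wordMat_ones _ (fun r hr => root_ok hk hr) (vec (vpos x.1)) (vec_lt _)).2
  rw [hg, gv, h1, gv, wAct_all hk hp1, hp2, wPerm_val hk]

theorem twisted_le : twistedF4 (ZMod 2) 1 ≤ relGrp := by
  rw [twistedF4, ChevalleyDatum.genSubgroup, Subgroup.closure_le]
  rintro g ⟨w, hw, hg⟩
  have h1 : ∀ r ∈ [33, 24, 14, 23, 27, 25, 28, 30, 20, 22, 19, 17],
      chevF4.x (ZMod 2) r 0 = 1 := fun r hr => root_zero (root_cert hr)
  have hone : (g : Matrix chevF4.Idx chevF4.Idx (ZMod 2)) = 1 → g ∈ relGrp := fun h =>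
    (Units.ext (h.trans Units.val_one.symm) : g = 1) ▸ one_mem _
  have h11 : (1 : ZMod 2) + 1 = 0 := rfl
  have hz : ∀ t : ZMod 2, t = 0 ∨ t = 1 := by decide
  rcases hw with ⟨t, rfl | rfl⟩ | ⟨t, u, rfl | rfl⟩
  · rcases hz t with rfl | rfl
    · refine hone (hg.trans ?_)
      simp [ChevalleyDatum.wordMat, f4PairWord, f4p1, f4p4, h1]
    · refine mem_relGrp_gen (k := 0) (by norm_num) (hg.trans ?_)
      simp [ChevalleyDatum.wordMat, f4PairWord, f4p1, f4p4, wWord0]
  · rcases hz t with rfl | rfl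
    · refine hone (hg.trans ?_)
      simp [ChevalleyDatum.wordMat, f4PairWord, f4m1, f4m4, h1]
    · refine mem_relGrp_gen (k := 1) (by norm_num) (hg.trans ?_)
      simp [ChevalleyDatum.wordMat, f4PairWord, f4m1, f4m4, wWord1]
  · rcases hz t with rfl | rfl <;> rcases hz u with rfl | rfl
    · refine hone (hg.trans ?_)
      simp [ChevalleyDatum.wordMat, b2ClassWord, f4a, f4b, f4ab, f4aab, h1]
    · refine mem_relGrp_gen (k := 4) (by norm_num) (hg.trans ?_)
      simp [ChevalleyDatum.wordMat, b2ClassWord, f4a, f4b, f4ab, f4aab, h1, wWord4]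
    · refine mem_relGrp_gen (k := 2) (by norm_num) (hg.trans ?_)
      simp [ChevalleyDatum.wordMat, b2ClassWord, f4a, f4b, f4ab, f4aab, h1, wWord2]
    · refine mem_relGrp_gen (k := 3) (by norm_num) (hg.trans ?_)
      simp [ChevalleyDatum.wordMat, b2ClassWord, f4a, f4b, f4ab, f4aab, h1, h11, wWord3]
  · rcases hz t with rfl | rfl <;> rcases hz u with rfl | rfl
    · refine hone (hg.trans ?_)
      simp [ChevalleyDatum.wordMat, b2ClassWord, f4ma, f4mb, f4mab, f4maab, h1]
    · refine mem_relGrp_gen (k := 7) (by norm_num) (hg.trans ?_)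
      simp [ChevalleyDatum.wordMat, b2ClassWord, f4ma, f4mb, f4mab, f4maab, h1, wWord7]
    · refine mem_relGrp_gen (k := 5) (by norm_num) (hg.trans ?_)
      simp [ChevalleyDatum.wordMat, b2ClassWord, f4ma, f4mb, f4mab, f4maab, h1, wWord5]
    · refine mem_relGrp_gen (k := 6) (by norm_num) (hg.trans ?_)
      simp [ChevalleyDatum.wordMat, b2ClassWord, f4ma, f4mb, f4mab, f4maab, h1, h11, wWord6]

/-- The stabiliser of a point is the twisted group. -/
theorem fix1_equiv : Nonempty (↥(twistedF4 (ZMod 2) 1) ≃* ↥fix1) := by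
  have hc : Nat.card ↥(twistedF4 (ZMod 2) 1) = 35942400 := by
    rw [← Nat.card_congr H40.Tits.equivT.toEquiv, H40.Tits.card_GT]
  haveI : Finite ↥(twistedF4 (ZMod 2) 1) := Nat.finite_of_card_ne_zero (by rw [hc]; norm_num)
  have hex : ∀ g : ↥(twistedF4 (ZMod 2) 1), ∃ σ : ↥fix1, Rel g.1 σ.1 := fun g => by
    obtain ⟨σ, hσ, h⟩ := twisted_le g.2
    exact ⟨⟨σ, hσ⟩, h⟩
  choose f hf using hex
  have hinj : Function.Injective f := fun g g' h =>
    Subtype.ext (rel_unique (hf g) (h ▸ hf g'))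
  have hbij : Function.Bijective f := by
    haveI : Finite ↥fix1 := inferInstance
    exact (Nat.bijective_iff_injective_and_card f).2 ⟨hinj, by rw [hc, card_fix1]⟩
  refine ⟨{ Equiv.ofBijective f hbij with map_mul' := fun g g' => ?_ }⟩
  obtain ⟨k, hk⟩ := hbij.2 (f g * f g')
  have : k = g * g' := Subtype.ext (rel_unique (hf k) (hk ▸ rel_mul (hf g) (hf g') (f g').2))
  show f (g * g') = f g * f g'
  rw [← this, hk]

end Cfsg.Agent.H90.Rudv
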