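import Cfsg.Agent.H90.Rudv.Nodes

/-!
The stabilisers of one, two and three points of the Rudvalis graph in terms of listed elements.
-/

set_option autoImplicit false
set_option maxRecDepth 20000

namespace Cfsg.Agent.H90.Rudv

open Cfsg.Agent.PGroups.Ru

/-- Two points at distance one in the graph of valency 1755. -/
def R (x y : Fin 4060) : Prop := x ≠ y ∧ adj x.1 y.1 = false

theorem R_aut {σ : Equiv.Perm (Fin 4060)} (hσ : σ ∈ autGrp) (x y : Fin 4060) :
    R (σ x) (σ y) ↔ R x y := by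
  unfold R
  rw [hσ x y, σ.injective.ne_iff]

theorem gamma_cert :
    ((List.range 4060).all fun x =>
      ((tMask 1).testBit x == (decide (x ≠ 0) && !adj 0 x)) &&
        ((tMask 2).testBit x == (decide (x ≠ 0) && adj 0 x)) && (adj x x == false)) = true := by
  decide +kernel

theorem mem_tMask1 (x : Fin 4060) : (tMask 1).testBit x.1 = true ↔ R (fp 0) x := by
  have h := gamma_cert
  simp only [List.all_eq_true, List.mem_range, Bool.and_eq_true, beq_iff_eq] at h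
  rw [(h x.1 x.2).1.1]
  have h0 : (fp 0).1 = 0 := fp_val (by norm_num)
  simp only [R, ne_eq, h0, Bool.and_eq_true, decide_eq_true_eq, Bool.not_eq_true', Fin.ext_iff]
  exact and_congr_left fun _ => not_congr eq_comm

theorem mem_tMask2 (x : Fin 4060) :
    (tMask 2).testBit x.1 = true ↔ x ≠ fp 0 ∧ ¬ R (fp 0) x := by
  have h := gamma_cert
  simp only [List.all_eq_true, List.mem_range, Bool.and_eq_true, beq_iff_eq] at h
  rw [(h x.1 x.2).1.2]
  have h0 : (fp 0).1 = 0 := fp_val (by norm_num)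
  simp only [R, ne_eq, h0, Bool.and_eq_true, decide_eq_true_eq, Fin.ext_iff, not_and,
    Bool.not_eq_false]
  constructor
  · exact fun hh => ⟨hh.1, fun _ => hh.2⟩
  · exact fun hh => ⟨hh.1, hh.2 (Ne.symm hh.1)⟩

theorem adj_self (x : Fin 4060) : adj x.1 x.1 = false := by
  have h := gamma_cert
  simp only [List.all_eq_true, List.mem_range, Bool.and_eq_true, beq_iff_eq] at h
  exact (h x.1 x.2).2

/-! ### Invariant masks -/

/-- Permutations preserving a mask. -/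
def presGrp (m : ℕ) : Subgroup (Equiv.Perm (Fin 4060)) where
  carrier := {σ | Pres σ m}
  one_mem' := fun _ => rfl
  mul_mem' := fun {a b} ha hb x => by rw [Equiv.Perm.mul_apply, ha, hb]
  inv_mem' := fun {a} ha x => by
    have h := ha (a⁻¹ x)
    simp only [Equiv.Perm.coe_inv, Equiv.apply_symm_apply] at h ⊢
    exact h.symm

theorem pres_of_fwd {σ : Equiv.Perm (Fin 4060)} {m : ℕ}
    (h : ∀ x ∈ mset m, σ x ∈ mset m) : Pres σ m := by
  intro x
  have himg : σ '' mset m = mset m := by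
    refine Set.eq_of_subset_of_ncard_le ?_ ?_ (Set.toFinite _)
    · rintro _ ⟨y, hy, rfl⟩; exact h y hy
    · rw [Set.ncard_image_of_injective _ σ.injective]
  rw [Bool.eq_iff_iff]
  constructor
  · intro hx
    have : σ x ∈ σ '' mset m := by rw [himg]; exact hx
    obtain ⟨y, hy, he⟩ := this
    rw [σ.injective he] at hy
    exact hy
  · exact h x

theorem mem_orMask_pow {l : List ℕ} {q : ℕ} (h : (orMask (l.map fun a => 2 ^ a)).testBit q = true) :
    q ∈ l := by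
  obtain ⟨m, hm, hq⟩ := (testBit_orMask _ _).1 h
  obtain ⟨a, ha, rfl⟩ := List.mem_map.1 hm
  rw [Nat.testBit_two_pow, decide_eq_true_eq] at hq
  exact hq ▸ ha

/-! ### Listed elements -/

theorem node_exists : ∀ k, k < 103 →
    ∃ σ ∈ autGrp, ∀ x : Fin 4060, (σ x).1 = img k x.1 := by
  have h9 := node9_cert
  simp only [List.all_eq_true, List.mem_range, beq_iff_eq] at h9
  intro k
  induction k using Nat.strong_induction_on with
  | _ k ih =>
    intro hk
    rcases Nat.lt_or_ge k 9 with hlt | hge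
    · refine ⟨perm k, perm_mem_aut hlt, fun x => ?_⟩
      rw [perm_val hlt, img, tab, if_pos hlt]
    rcases eq_or_lt_of_le hge with rfl | hgt
    · exact ⟨1, one_mem _, fun x => (h9 x.1 x.2).symm⟩
    obtain ⟨i, rfl⟩ := Nat.exists_eq_add_of_le (show 10 ≤ k by omega)
    obtain ⟨ha, hb, hc⟩ := nodes_spec i (by omega)
    obtain ⟨σ, hσ, hσv⟩ := ih _ ha (by omega)
    obtain ⟨τ, hτ, hτv⟩ := ih _ hb (by omega)
    refine ⟨σ * τ, mul_mem hσ hτ, fun x => ?_⟩
    rw [Equiv.Perm.mul_apply, hσv, hτv]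
    exact (hc x.1 x.2).symm

open Classical in
/-- A listed element. -/
noncomputable def node (k : ℕ) : Equiv.Perm (Fin 4060) :=
  if h : ∃ σ ∈ autGrp, ∀ x : Fin 4060, (σ x).1 = img k x.1 then h.choose else 1

theorem node_spec {k : ℕ} (hk : k < 103) :
    node k ∈ autGrp ∧ ∀ x : Fin 4060, (node k x).1 = img k x.1 := by
  rw [node, dif_pos (node_exists k hk)]
  exact (node_exists k hk).choose_spec

theorem node_fp {k a : ℕ} (hk : k < 103) (ha : a < 4060) : node k (fp a) = fp (img k a) := by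
  have h := (node_spec hk).2 (fp a)
  rw [fp_val ha] at h
  rw [← h, fp_fin]

theorem img_lt {k a : ℕ} (hk : k < 103) (ha : a < 4060) : img k a < 4060 := by
  have h := (node_spec hk).2 (fp a)
  rw [fp_val ha] at h
  rw [← h]; exact Fin.isLt _

theorem node_fix {k a : ℕ} (hk : k < 103) (ha : a < 4060) (h : img k a = a) :
    node k (fp a) = fp a := by rw [node_fp hk ha, h]

theorem node_lists :
    (∀ k ∈ idxA, k < 103 ∧ node k ∈ fix2) ∧ (∀ k ∈ idxB, k < 103 ∧ node k ∈ fix2) ∧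
    (∀ k ∈ idxZ, k < 103 ∧ node k ∈ fix3) ∧ (∀ k ∈ idxE, k < 103 ∧ node k ∈ fix3) ∧
    (∀ k ∈ idxT, k < 103 ∧ node k ∈ fix1) := by
  have h := fix_cert
  simp only [fixOK, Bool.and_eq_true, List.all_eq_true, beq_iff_eq, decide_eq_true_eq] at h
  obtain ⟨⟨⟨⟨⟨hA, hB⟩, hZ⟩, hE⟩, hT⟩, -⟩ := h
  have f1 : ∀ k, k < 103 → img k 0 = 0 → node k ∈ fix1 := fun k hk h0 =>
    ⟨(node_spec hk).1, node_fix hk (by norm_num) h0⟩
  have f2 : ∀ k, k < 103 → img k 0 = 0 → img k 4059 = 4059 → node k ∈ fix2 := fun k hk h0 h1 =>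
    ⟨f1 k hk h0, node_fix hk (by norm_num) h1⟩
  have f3 : ∀ k, k < 103 → img k 0 = 0 → img k 4059 = 4059 → img k 4024 = 4024 →
      node k ∈ fix3 := fun k hk h0 h1 h2 => ⟨f2 k hk h0 h1, node_fix hk (by norm_num) h2⟩
  refine ⟨fun k hk => ?_, fun k hk => ?_, fun k hk => ?_, fun k hk => ?_, fun k hk => ?_⟩
  · obtain ⟨⟨a, b⟩, c⟩ := hA k hk; exact ⟨a, f2 k a b c⟩
  · obtain ⟨⟨a, b⟩, c⟩ := hB k hk; exact ⟨a, f2 k a b c⟩
  · obtain ⟨⟨⟨a, b⟩, c⟩, d⟩ := hZ k hk; exact ⟨a, f3 k a b c d⟩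
  · obtain ⟨⟨⟨a, b⟩, c⟩, d⟩ := hE k hk; exact ⟨a, f3 k a b c d⟩
  · obtain ⟨a, b⟩ := hT k hk; exact ⟨a, f1 k a b⟩

theorem idxE_mem {q : ℕ} (hq : q < 5) : idxE.getD q 0 ∈ idxE := by
  have h := powers_cert
  simp only [powersOK, Bool.and_eq_true, beq_iff_eq] at h
  have hlen : q < idxE.length := by rw [h.1.1.1.2]; exact hq
  rw [List.getD_eq_getElem _ _ hlen]
  exact List.getElem_mem _

/-- The element of order five. -/
noncomputable def eP : Equiv.Perm (Fin 4060) := node eIdx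

theorem eIdx_lt : eIdx < 103 := (node_lists.2.2.2.1 _ (idxE_mem (q := 1) (by norm_num))).1

theorem eP_mem : eP ∈ fix3 := (node_lists.2.2.2.1 _ (idxE_mem (q := 1) (by norm_num))).2

theorem eP_pow_val (q : ℕ) (x : Fin 4060) : ((eP ^ q) x).1 = iterT (tab eIdx) q x.1 := by
  induction q with
  | zero => rfl
  | succ q ih => rw [pow_succ', Equiv.Perm.mul_apply, eP, (node_spec eIdx_lt).2, ← eP, ih]; rfl

theorem node_idxE {q : ℕ} (hq : q < 5) : node (idxE.getD q 0) = eP ^ q := by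
  have h := powers_cert
  simp only [powersOK, Bool.and_eq_true, List.all_eq_true, List.mem_range, beq_iff_eq,
    decide_eq_true_eq] at h
  refine Equiv.ext fun x => Fin.ext ?_
  rw [(node_spec (node_lists.2.2.2.1 _ (idxE_mem hq)).1).2, eP_pow_val]
  exact h.1.1.2 q hq x.1 x.2

theorem idxE_pow {k : ℕ} (hk : k ∈ idxE) : ∃ q, q < 5 ∧ node k = eP ^ q := by
  obtain ⟨q, hq, rfl⟩ := List.getElem_of_mem hk
  have h := powers_cert
  simp only [powersOK, Bool.and_eq_true, beq_iff_eq] at h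
  have h5 : q < 5 := by rw [← h.1.1.1.2]; exact hq
  exact ⟨q, h5, by rw [← List.getD_eq_getElem _ 0 hq]; exact node_idxE h5⟩

theorem eP_order : orderOf eP = 5 := by
  have h := powers_cert
  simp only [powersOK, Bool.and_eq_true, List.all_eq_true, List.mem_range, beq_iff_eq,
    Bool.not_eq_true', beq_eq_false_iff_ne] at h
  haveI := Fact.mk (show Nat.Prime 5 by norm_num)
  refine orderOf_eq_prime (Equiv.ext fun x => Fin.ext ?_) fun he => h.2 ?_
  · rw [eP_pow_val]; exact h.1.2 x.1 x.2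
  · have h1 := (node_spec eIdx_lt).2 (fp 3674)
    rw [← eP, he, fp_val (by norm_num : (3674 : ℕ) < 4060)] at h1
    simpa [fp] using h1.symm

/-! ### Orbits and orders -/

theorem mem_fix1_iff {σ : Equiv.Perm (Fin 4060)} :
    σ ∈ fix1 ↔ σ ∈ autGrp ∧ σ (fp 0) = fp 0 := Iff.rfl

theorem tree1_fix1 : treeGrp 1 ≤ fix1 :=
  treeGrp_le tree_shape.2.1.2.1 fun g hg => perm_mem_fix1 (by simp at hg ⊢; omega)

theorem tree2_fix1 : treeGrp 2 ≤ fix1 :=
  treeGrp_le tree_shape.2.2.1.1 fun g hg => perm_mem_fix1 (by simp at hg ⊢; omega)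

theorem orbit_eq_mset {H : Subgroup (Equiv.Perm (Fin 4060))} {i : ℕ} (hi : i < 10)
    (hH : treeGrp i ≤ H) (hp : ∀ σ ∈ H, Pres σ (tMask i)) {x : Fin 4060}
    (hx : x ∈ mset (tMask i)) : MulAction.orbit H x = mset (tMask i) := by
  ext y
  constructor
  · rintro ⟨σ, rfl⟩
    show (tMask i).testBit ((σ : Equiv.Perm (Fin 4060)) x).1 = true
    rw [hp σ σ.2]; exact hx
  · intro hy
    obtain ⟨σ, hσ, hσy⟩ := reach hi rfl hH y hy
    obtain ⟨τ, hτ, hτx⟩ := reach hi rfl hH x hx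
    refine ⟨⟨σ * τ⁻¹, mul_mem hσ (inv_mem hτ)⟩, ?_⟩
    show (σ * τ⁻¹) x = y
    rw [Equiv.Perm.mul_apply, ← hτx]
    simp [hσy]

theorem pres_tMask2 {σ : Equiv.Perm (Fin 4060)} (hσ : σ ∈ fix1) : Pres σ (tMask 2) := by
  intro x
  rw [Bool.eq_iff_iff, mem_tMask2, mem_tMask2]
  have h1 : σ x ≠ fp 0 ↔ x ≠ fp 0 := by
    conv_lhs => rw [← (mem_fix1_iff.1 hσ).2]
    exact σ.injective.ne_iff
  rw [h1]
  conv_lhs => rw [← (mem_fix1_iff.1 hσ).2, R_aut hσ.1, (mem_fix1_iff.1 hσ).2]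

theorem orbit_fix1_gamma {x : Fin 4060} (hx : x ∈ mset (tMask 1)) :
    MulAction.orbit fix1 x = mset (tMask 1) :=
  orbit_eq_mset (by norm_num) tree1_fix1 (fun _ h => pres_tMask1 h) hx

theorem orbit_fix1_delta {x : Fin 4060} (hx : x ∈ mset (tMask 2)) :
    MulAction.orbit fix1 x = mset (tMask 2) :=
  orbit_eq_mset (by norm_num) tree2_fix1 (fun _ h => pres_tMask2 h) hx

theorem card_stab_delta {c : Fin 4060} (hc : c ∈ mset (tMask 2)) :
    Nat.card ↥(fix1 ⊓ stab c.1) = 15600 := by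
  have h := card_eq_orbit_mul fix1 c
  rw [orbit_fix1_delta hc, tree_size (by norm_num), card_fix1] at h
  rw [stab, fp_fin]
  have h' : 35942400 = 2304 * Nat.card ↥(fix1 ⊓ MulAction.stabilizer (Equiv.Perm (Fin 4060)) c) := h
  omega

theorem mem_gamma_4059 : fp 4059 ∈ mset (tMask 1) := by
  show (tMask 1).testBit (fp 4059).1 = true
  rw [fp_val (by norm_num : (4059 : ℕ) < 4060)]
  exact tree_shape.2.1.2.2

theorem card_fix2 : Nat.card fix2 = 20480 := by
  have h := card_eq_orbit_mul fix1 (fp 4059)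
  rw [orbit_fix1_gamma mem_gamma_4059, tree_size (by norm_num), card_fix1] at h
  have h' : 35942400 = 1755 * Nat.card fix2 := h
  omega

theorem card_fix3 : Nat.card fix3 = 20 :=
  le_antisymm card_fix3_le (by rw [fix3_eq]; exact le_trans (by norm_num) card_lower3)

theorem orbit_fix2 : MulAction.orbit fix2 (fp 4024) = mset (tMask 3) := by
  have hle : treeGrp 3 ≤ fix2 :=
    treeGrp_le tree_shape.2.2.2.2.1.2 fun g hg => perm_mem_fix2 (by simp at hg ⊢; omega)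
  refine (Set.eq_of_subset_of_ncard_le ?_ ?_ (Set.toFinite _)).symm
  · intro z hz
    obtain ⟨σ, hσ, rfl⟩ := reach (by norm_num) tree_shape.2.2.2.2.1.1 hle z hz
    exact ⟨⟨σ, hσ⟩, rfl⟩
  · have h := card_eq_orbit_mul fix2 (fp 4024)
    rw [card_fix2] at h
    have h' : 20480 = (MulAction.orbit fix2 (fp 4024)).ncard * Nat.card fix3 := h
    rw [card_fix3] at h'
    rw [tree_size (by norm_num)]
    show (MulAction.orbit fix2 (fp 4024)).ncard ≤ 1024
    omega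

theorem orbit_fix3 : MulAction.orbit fix3 (fp 3674) = mset (tMask 5) := by
  refine (Set.eq_of_subset_of_ncard_le ?_ ?_ (Set.toFinite _)).symm
  · intro z hz
    obtain ⟨σ, hσ, rfl⟩ := reach (by norm_num) tree_shape.2.2.2.2.2.2.1.1
      (le_of_eq fix3_eq.symm) z hz
    exact ⟨⟨σ, hσ⟩, rfl⟩
  · have h := card_eq_orbit_mul fix3 (fp 3674)
    rw [card_fix3] at h
    rw [tree_size (by norm_num)]
    show (MulAction.orbit fix3 (fp 3674)).ncard ≤ 20
    exact Nat.le_of_dvd (by norm_num) ⟨_, h⟩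

theorem fix3_decomp {σ : Equiv.Perm (Fin 4060)} (hσ : σ ∈ fix3) :
    ∃ z ∈ idxZ, ∃ q, q < 5 ∧ σ = node z * eP ^ q := by
  have hm' : σ (fp 3674) ∈ mset (tMask 5) :=
    orbit_fix3 ▸ (⟨⟨σ, hσ⟩, rfl⟩ : σ (fp 3674) ∈ MulAction.orbit fix3 (fp 3674))
  have hm : (tMask 5).testBit (σ (fp 3674)).1 = true := hm'
  have h := cover_cert
  simp only [coverOK, Bool.and_eq_true, beq_iff_eq] at h
  rw [← h.1.1.1.1.1.2] at hm
  obtain ⟨m, hm, hb⟩ := (testBit_orMask _ _).1 hm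
  obtain ⟨z, hz, hm⟩ := List.mem_flatMap.1 hm
  obtain ⟨k, hk, rfl⟩ := List.mem_map.1 hm
  rw [Nat.testBit_two_pow, decide_eq_true_eq] at hb
  obtain ⟨q, hq, hkq⟩ := idxE_pow hk
  refine ⟨z, hz, q, hq, ?_⟩
  obtain ⟨hz1, hz2⟩ := node_lists.2.2.1 z hz
  obtain ⟨hk1, hk2⟩ := node_lists.2.2.2.1 k hk
  rw [← hkq]
  have h4 : ((node z * node k)⁻¹ * σ) (fp 3674) = fp 3674 := by
    rw [Equiv.Perm.mul_apply, Equiv.Perm.inv_def, Equiv.symm_apply_eq, Equiv.Perm.mul_apply]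
    apply Fin.ext
    rw [← hb, (node_spec hz1).2, (node_spec hk1).2, fp_val (by norm_num : (3674 : ℕ) < 4060)]
  have := eq_one_of_fix4 (mul_mem (inv_mem (mul_mem hz2 hk2)) hσ) h4
  rwa [inv_mul_eq_one, eq_comm] at this

theorem fix2_decomp {σ : Equiv.Perm (Fin 4060)} (hσ : σ ∈ fix2) :
    ∃ a ∈ idxA, ∃ b ∈ idxB, ∃ z ∈ idxZ, ∃ q, q < 5 ∧ σ = node a * node b * node z * eP ^ q := by
  have hm' : σ (fp 4024) ∈ mset (tMask 3) :=
    orbit_fix2 ▸ (⟨⟨σ, hσ⟩, rfl⟩ : σ (fp 4024) ∈ MulAction.orbit fix2 (fp 4024))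
  have hm : (tMask 3).testBit (σ (fp 4024)).1 = true := hm'
  have h := cover_cert
  simp only [coverOK, Bool.and_eq_true, beq_iff_eq] at h
  rw [← h.1.1.1.1.1.1] at hm
  obtain ⟨m, hm, hb⟩ := (testBit_orMask _ _).1 hm
  obtain ⟨a, ha, hm⟩ := List.mem_flatMap.1 hm
  obtain ⟨b, hb', rfl⟩ := List.mem_map.1 hm
  rw [Nat.testBit_two_pow, decide_eq_true_eq] at hb
  obtain ⟨ha1, ha2⟩ := node_lists.1 a ha
  obtain ⟨hb1, hb2⟩ := node_lists.2.1 b hb'
  have h4 : ((node a * node b)⁻¹ * σ) (fp 4024) = fp 4024 := by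
    rw [Equiv.Perm.mul_apply, Equiv.Perm.inv_def, Equiv.symm_apply_eq, Equiv.Perm.mul_apply]
    apply Fin.ext
    rw [← hb, (node_spec ha1).2, (node_spec hb1).2, fp_val (by norm_num : (4024 : ℕ) < 4060)]
  obtain ⟨z, hz, q, hq, he⟩ := fix3_decomp
    (show (node a * node b)⁻¹ * σ ∈ fix3 from ⟨fix2.mul_mem (fix2.inv_mem (fix2.mul_mem ha2 hb2)) hσ, h4⟩)
  refine ⟨a, ha, b, hb', z, hz, q, hq, ?_⟩
  rw [mul_assoc (node a * node b), ← he, mul_inv_cancel_left]

theorem fix2_eq_closure :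
    fix2 = Subgroup.closure {σ | ∃ g ∈ [4, 5, 6, 7, 8], σ = perm g} := by
  set C := Subgroup.closure {σ | ∃ g ∈ [4, 5, 6, 7, 8], σ = perm g}
  have hmem : ∀ g ∈ [4, 5, 6, 7, 8], perm g ∈ C := fun g hg =>
    Subgroup.subset_closure ⟨g, hg, rfl⟩
  refine le_antisymm (fun σ hσ => ?_) ?_
  · have hm : σ (fp 4024) ∈ mset (tMask 3) :=
      orbit_fix2 ▸ (⟨⟨σ, hσ⟩, rfl⟩ : σ (fp 4024) ∈ MulAction.orbit fix2 (fp 4024))
    have h3 : treeGrp 3 ≤ C :=
      treeGrp_le tree_shape.2.2.2.2.1.2 fun g hg => hmem g (by simp at hg ⊢; omega)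
    have h5 : fix3 ≤ C := by
      rw [fix3_eq]
      exact treeGrp_le tree_shape.2.2.2.2.2.2.1.2 fun g hg => hmem g (by simp at hg ⊢; omega)
    have h3' : treeGrp 3 ≤ fix2 :=
      treeGrp_le tree_shape.2.2.2.2.1.2 fun g hg => perm_mem_fix2 (by simp at hg ⊢; omega)
    obtain ⟨τ, hτ, hτx⟩ := reach (by norm_num) tree_shape.2.2.2.2.1.1 (le_refl (treeGrp 3)) _ hm
    have : τ⁻¹ * σ ∈ fix3 := ⟨fix2.mul_mem (fix2.inv_mem (h3' hτ)) hσ, by
      show (τ⁻¹ * σ) (fp 4024) = fp 4024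
      rw [Equiv.Perm.mul_apply, ← hτx]; simp⟩
    have := mul_mem (h3 hτ) (h5 this)
    rwa [mul_inv_cancel_left] at this
  · rw [Subgroup.closure_le]
    rintro σ ⟨g, hg, rfl⟩
    exact perm_mem_fix2 hg

theorem pres_fix2 {i : ℕ} (hi : i ∈ [3, 6, 7, 8, 9]) {σ : Equiv.Perm (Fin 4060)}
    (hσ : σ ∈ fix2) : Pres σ (tMask i) := by
  have : fix2 ≤ presGrp (tMask i) := by
    rw [fix2_eq_closure, Subgroup.closure_le]
    rintro τ ⟨g, hg, rfl⟩
    refine pres_of_fwd fun x hx => ?_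
    have h := closed_cert
    simp only [closedOK, List.all_eq_true, List.mem_range, Bool.or_eq_true,
      Bool.not_eq_true'] at h
    show (tMask i).testBit (perm g x).1 = true
    rw [perm_val (by simp at hg; omega)]
    rcases h i hi g hg x.1 x.2 with h' | h'
    · have hx' : (tMask i).testBit x.1 = true := hx
      rw [hx'] at h'; exact absurd h' (by simp)
    · exact h'
  exact this hσ

theorem orbit_fix2_piece {i : ℕ} (hi : i ∈ [6, 7, 8, 9]) {x : Fin 4060}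
    (hx : x ∈ mset (tMask i)) : MulAction.orbit fix2 x = mset (tMask i) := by
  refine orbit_eq_mset (by simp at hi; omega)
    (treeGrp_le (tree_shape.2.2.2.2.2.2.2.1 i hi).1 fun g hg =>
      perm_mem_fix2 (by simp at hg ⊢; omega))
    (fun σ hσ => pres_fix2 (by simp at hi ⊢; omega) hσ) hx

theorem fix1_decomp {σ : Equiv.Perm (Fin 4060)} (hσ : σ ∈ fix1)
    (hb : σ (fp 4059) ∈ mset (tMask 9)) :
    ∃ q, q < 5 ∧ ∃ t ∈ idxT, ∃ a ∈ idxA, ∃ b ∈ idxB, ∃ z ∈ idxZ, ∃ q', q' < 5 ∧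
      σ = eP ^ q * (node t * node a * node b * node z) * eP ^ q' := by
  have hm : (tMask 9).testBit (σ (fp 4059)).1 = true := hb
  have h := cover_cert
  simp only [coverOK, Bool.and_eq_true, beq_iff_eq] at h
  rw [← h.1.1.1.1.2] at hm
  obtain ⟨m, hm, hb⟩ := (testBit_orMask _ _).1 hm
  obtain ⟨k, hk, hm⟩ := List.mem_flatMap.1 hm
  obtain ⟨t, ht, rfl⟩ := List.mem_map.1 hm
  rw [Nat.testBit_two_pow, decide_eq_true_eq] at hb
  obtain ⟨hk1, hk2⟩ := node_lists.2.2.2.1 k hk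
  obtain ⟨ht1, ht2⟩ := node_lists.2.2.2.2 t ht
  obtain ⟨q, hq, hkq⟩ := idxE_pow hk
  have h4 : ((node k * node t)⁻¹ * σ) (fp 4059) = fp 4059 := by
    rw [Equiv.Perm.mul_apply, Equiv.Perm.inv_def, Equiv.symm_apply_eq, Equiv.Perm.mul_apply]
    apply Fin.ext
    rw [← hb, (node_spec hk1).2, (node_spec ht1).2, fp_val (by norm_num : (4059 : ℕ) < 4060)]
  obtain ⟨a, ha, b, hb', z, hz, q', hq', he⟩ := fix2_decomp
    (show (node k * node t)⁻¹ * σ ∈ fix2 from
      ⟨fix1.mul_mem (fix1.inv_mem (fix1.mul_mem hk2.1.1 ht2)) hσ, h4⟩)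
  refine ⟨q, hq, t, ht, a, ha, b, hb', z, hz, q', hq', ?_⟩
  rw [← hkq]
  calc σ = node k * node t * ((node k * node t)⁻¹ * σ) := by rw [mul_inv_cancel_left]
    _ = node k * node t * (node a * node b * node z * eP ^ q') := by rw [he]
    _ = _ := by group

attribute [irreducible] node eP

end Cfsg.Agent.H90.Rudv
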