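import Cfsg.Agent.PGroups.RuPermGroup
import Cfsg.Agent.H90.Rudv.DataNodes0
import Cfsg.Agent.H90.Rudv.DataNodes1
import Cfsg.Agent.H90.Rudv.DataNodes2
import Cfsg.Agent.H90.Rudv.DataNodes3
import Cfsg.Agent.H90.Rudv.DataIdx

/-!
Tables of the elements used for the subgroups of the point stabiliser of the Rudvalis graph, and
the checks on these tables.
-/

set_option autoImplicit false
set_option maxRecDepth 20000
set_option Elab.async false

namespace Cfsg.Agent.H90.Rudv

open Cfsg.Agent.PGroups.Ru

/-- All the tables from the tenth on. -/
def nodeTabs : List ℕ := nodeTabs0 ++ nodeTabs1 ++ nodeTabs2 ++ nodeTabs3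

/-- The table of an element. -/
def tab (k : ℕ) : ℕ := if k < 9 then fwd k else nodeTabs.getD (k - 9) 0

/-- The image under a listed element. -/
def img (k x : ℕ) : ℕ := tget (tab k) x

/-- The tables from a given one on are products. -/
def nodesOK (lo len : ℕ) : Bool :=
  (List.range len).all fun j =>
    let i := lo + j
    let d := nodeDefs.getD i (0, 0)
    decide (d.1 < 10 + i) && decide (d.2 < 10 + i) &&
      let a := tab (10 + i); let b := tab d.1; let c := tab d.2
      (List.range 4060).all fun x => tget a x == tget b (tget c x)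

theorem node9_cert : ((List.range 4060).all fun x => img 9 x == x) = true := by decide +kernel

theorem nodes_cert0 : nodesOK 0 8 = true := by decide +kernel
theorem nodes_cert1 : nodesOK 8 8 = true := by decide +kernel
theorem nodes_cert2 : nodesOK 16 8 = true := by decide +kernel
theorem nodes_cert3 : nodesOK 24 8 = true := by decide +kernel
theorem nodes_cert4 : nodesOK 32 8 = true := by decide +kernel
theorem nodes_cert5 : nodesOK 40 8 = true := by decide +kernel
theorem nodes_cert6 : nodesOK 48 8 = true := by decide +kernel
theorem nodes_cert7 : nodesOK 56 8 = true := by decide +kernel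
theorem nodes_cert8 : nodesOK 64 8 = true := by decide +kernel
theorem nodes_cert9 : nodesOK 72 8 = true := by decide +kernel
theorem nodes_cert10 : nodesOK 80 8 = true := by decide +kernel
theorem nodes_cert11 : nodesOK 88 5 = true := by decide +kernel

theorem nodes_spec (i : ℕ) (hi : i < 93) :
    (nodeDefs.getD i (0, 0)).1 < 10 + i ∧ (nodeDefs.getD i (0, 0)).2 < 10 + i ∧
      ∀ x, x < 4060 → img (10 + i) x =
        img (nodeDefs.getD i (0, 0)).1 (img (nodeDefs.getD i (0, 0)).2 x) := by
  have key : ∀ lo len, nodesOK lo len = true → lo ≤ i → i < lo + len →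
      (nodeDefs.getD i (0, 0)).1 < 10 + i ∧ (nodeDefs.getD i (0, 0)).2 < 10 + i ∧
        ∀ x, x < 4060 → img (10 + i) x =
          img (nodeDefs.getD i (0, 0)).1 (img (nodeDefs.getD i (0, 0)).2 x) := by
    intro lo len h h1 h2
    obtain ⟨j, rfl⟩ := Nat.exists_eq_add_of_le h1
    simp only [nodesOK, Bool.and_eq_true, List.all_eq_true, List.mem_range, beq_iff_eq,
      decide_eq_true_eq] at h
    obtain ⟨⟨ha, hb⟩, hc⟩ := h j (by omega)
    exact ⟨ha, hb, hc⟩
  rcases Nat.lt_or_ge i 8 with h0 | h0
  · exact key _ _ nodes_cert0 (by omega) (by omega)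
  rcases Nat.lt_or_ge i 16 with h1 | h1
  · exact key _ _ nodes_cert1 (by omega) (by omega)
  rcases Nat.lt_or_ge i 24 with h2 | h2
  · exact key _ _ nodes_cert2 (by omega) (by omega)
  rcases Nat.lt_or_ge i 32 with h3 | h3
  · exact key _ _ nodes_cert3 (by omega) (by omega)
  rcases Nat.lt_or_ge i 40 with h4 | h4
  · exact key _ _ nodes_cert4 (by omega) (by omega)
  rcases Nat.lt_or_ge i 48 with h5 | h5
  · exact key _ _ nodes_cert5 (by omega) (by omega)
  rcases Nat.lt_or_ge i 56 with h6 | h6
  · exact key _ _ nodes_cert6 (by omega) (by omega)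
  rcases Nat.lt_or_ge i 64 with h7 | h7
  · exact key _ _ nodes_cert7 (by omega) (by omega)
  rcases Nat.lt_or_ge i 72 with h8 | h8
  · exact key _ _ nodes_cert8 (by omega) (by omega)
  rcases Nat.lt_or_ge i 80 with h9 | h9
  · exact key _ _ nodes_cert9 (by omega) (by omega)
  rcases Nat.lt_or_ge i 88 with h10 | h10
  · exact key _ _ nodes_cert10 (by omega) (by omega)
  exact key _ _ nodes_cert11 (by omega) (by omega)

/-- An element of order five. -/
def eIdx : ℕ := idxE.getD 1 0

/-- The powers of the element of order five are as listed. -/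
def powersOK : Bool :=
  decide (eIdx < 103) && (idxE.length == 5) &&
  ((List.range 5).all fun q =>
    let a := tab (idxE.getD q 0); let b := tab eIdx
    (List.range 4060).all fun x => tget a x == iterT b q x) &&
  ((let b := tab eIdx; (List.range 4060).all fun x => iterT b 5 x == x)) &&
  !(img eIdx 3674 == 3674)

theorem powers_cert : powersOK = true := by decide +kernel

/-- The listed elements lie in the expected stabilisers. -/
def fixOK : Bool :=
  (idxA.all fun k => decide (k < 103) && img k 0 == 0 && img k 4059 == 4059) &&
  (idxB.all fun k => decide (k < 103) && img k 0 == 0 && img k 4059 == 4059) &&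
  (idxZ.all fun k => decide (k < 103) && img k 0 == 0 && img k 4059 == 4059 && img k 4024 == 4024) &&
  (idxE.all fun k => decide (k < 103) && img k 0 == 0 && img k 4059 == 4059 && img k 4024 == 4024) &&
  (idxT.all fun k => decide (k < 103) && img k 0 == 0) &&
  (selIdx.length == 4)

theorem fix_cert : fixOK = true := by decide +kernel

/-- The listed elements cover the orbits. -/
def coverOK : Bool :=
  (orMask (idxA.flatMap fun a => idxB.map fun b => 2 ^ img a (img b 4024)) == tMask 3) &&
  (orMask (idxZ.flatMap fun a => idxE.map fun b => 2 ^ img a (img b 3674)) == tMask 5) &&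
  (orMask (idxE.flatMap fun a => idxT.map fun b => 2 ^ img a (img b 4059)) == tMask 9) &&
  (idxA.length == 32) && (idxB.length == 32) && (idxZ.length == 4) && (idxT.length == 2)

theorem cover_cert : coverOK = true := by decide +kernel

/-- The masks of the orbits of the stabiliser of two points are closed under its generators. -/
def closedOK : Bool :=
  [3, 6, 7, 8, 9].all fun i => [4, 5, 6, 7, 8].all fun g =>
    let m := tMask i; let t := fwd g
    (List.range 4060).all fun x => !m.testBit x || m.testBit (tget t x)

theorem closed_cert : closedOK = true := by decide +kernel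

end Cfsg.Agent.H90.Rudv
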