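import Mathlib

/-!
Counting in a permutation group of rank three on 4060 points with subdegrees 1755 and 2304.
-/

set_option autoImplicit false

open scoped Pointwise

namespace Cfsg.Agent.H90.Rudv

/-- The order of a subgroup is the length of an orbit times the order of the stabiliser in it. -/
theorem card_orbit_inf {M X : Type*} [Group M] [Finite X] [MulAction M X] (H : Subgroup M) (x : X) :
    Nat.card H = (MulAction.orbit H x).ncard * Nat.card ↥(H ⊓ MulAction.stabilizer M x) := by
  have h := (MulAction.stabilizer H x).card_mul_index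
  rw [MulAction.index_stabilizer] at h
  have e : (MulAction.stabilizer H x).map H.subtype = H ⊓ MulAction.stabilizer M x := by
    ext z
    constructor
    · rintro ⟨w, hw, rfl⟩
      exact ⟨w.2, hw⟩
    · rintro ⟨hz, hzx⟩
      exact ⟨⟨z, hz⟩, hzx, rfl⟩
  rw [← e, Subgroup.card_map_of_injective H.subtype_injective, mul_comm]
  exact h.symm

variable {Ω : Type*} [Fintype Ω] {G : Subgroup (Equiv.Perm Ω)}

/-- The orbital of a pair. -/
def Orbital (G : Subgroup (Equiv.Perm Ω)) (a b x y : Ω) : Prop := ∃ g : G, g • a = x ∧ g • b = y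

/-- A rank three group with the subdegrees of the Rudvalis group. -/
structure Shape (G : Subgroup (Equiv.Perm Ω)) (a b c : Ω) : Prop where
  card : Fintype.card Ω = 4060
  trans : MulAction.IsPretransitive G Ω
  gamma : (MulAction.orbit (MulAction.stabilizer G a) b).ncard = 1755
  delta : (MulAction.orbit (MulAction.stabilizer G a) c).ncard = 2304

variable {a b c : Ω}

theorem orbital_smul (g : G) {x y : Ω} :
    Orbital G a b (g • x) (g • y) ↔ Orbital G a b x y := by
  constructor
  · rintro ⟨h, h1, h2⟩
    exact ⟨g⁻¹ * h, by rw [mul_smul, h1, inv_smul_smul], by rw [mul_smul, h2, inv_smul_smul]⟩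
  · rintro ⟨h, h1, h2⟩
    exact ⟨g * h, by rw [mul_smul, h1], by rw [mul_smul, h2]⟩

theorem orbital_base {x : Ω} :
    Orbital G a b a x ↔ x ∈ MulAction.orbit (MulAction.stabilizer G a) b := by
  constructor
  · rintro ⟨g, h1, h2⟩
    exact ⟨⟨g, h1⟩, h2⟩
  · rintro ⟨g, rfl⟩
    exact ⟨g.1, g.2, rfl⟩

namespace Shape

variable (hs : Shape G a b c)
include hs

theorem move (x : Ω) : ∃ g : G, g • a = x := hs.trans.exists_smul_eq a x

theorem self_not_gamma : a ∉ MulAction.orbit (MulAction.stabilizer G a) b := by
  intro h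
  have := hs.gamma
  rw [← MulAction.orbit_eq_iff.2 h] at this
  have e : MulAction.orbit (MulAction.stabilizer G a) a = {a} := by
    ext z
    constructor
    · rintro ⟨g, rfl⟩; exact g.2
    · rintro rfl; exact MulAction.mem_orbit_self _
  rw [e, Set.ncard_singleton] at this
  norm_num at this

theorem self_not_delta : a ∉ MulAction.orbit (MulAction.stabilizer G a) c := by
  intro h
  have := hs.delta
  rw [← MulAction.orbit_eq_iff.2 h] at this
  have e : MulAction.orbit (MulAction.stabilizer G a) a = {a} := by
    ext z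
    constructor
    · rintro ⟨g, rfl⟩; exact g.2
    · rintro rfl; exact MulAction.mem_orbit_self _
  rw [e, Set.ncard_singleton] at this
  norm_num at this

theorem disjoint_orbits : Disjoint (MulAction.orbit (MulAction.stabilizer G a) b)
    (MulAction.orbit (MulAction.stabilizer G a) c) := by
  refine Set.disjoint_left.2 fun x h1 h2 => ?_
  have := hs.gamma
  rw [← MulAction.orbit_eq_iff.2 h1, MulAction.orbit_eq_iff.2 h2, hs.delta] at this
  norm_num at this

theorem cases (x : Ω) : x = a ∨ x ∈ MulAction.orbit (MulAction.stabilizer G a) b ∨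
    x ∈ MulAction.orbit (MulAction.stabilizer G a) c := by
  by_contra h
  simp only [not_or] at h
  set Γ := MulAction.orbit (MulAction.stabilizer G a) b
  set Δ := MulAction.orbit (MulAction.stabilizer G a) c
  have h1 : (insert x (insert a (Γ ∪ Δ))).ncard = 4061 := by
    rw [Set.ncard_insert_of_notMem (by simp [h.1, h.2.1, h.2.2]),
      Set.ncard_insert_of_notMem (by simp [Γ, Δ, hs.self_not_gamma, hs.self_not_delta]),
      Set.ncard_union_eq hs.disjoint_orbits, hs.gamma, hs.delta]
  have h2 := Set.ncard_le_ncard (Set.subset_univ (insert x (insert a (Γ ∪ Δ))))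
  rw [h1, Set.ncard_univ, Nat.card_eq_fintype_card, hs.card] at h2
  omega

theorem irrefl (x : Ω) : ¬ Orbital G a b x x := by
  rintro ⟨g, h1, h2⟩
  have : a = b := MulAction.injective g (h1.trans h2.symm)
  exact hs.self_not_gamma (by
    rw [← this]
    exact MulAction.mem_orbit_self _)

theorem nbr_card (x : Ω) : {y | Orbital G a b x y}.ncard = 1755 := by
  obtain ⟨g, rfl⟩ := hs.move x
  rw [← hs.gamma]
  refine (Set.ncard_congr (fun y _ => g • y) ?_ ?_ ?_).symm
  · intro y hy
    exact (orbital_smul g).2 (orbital_base.2 hy)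
  · intro y z _ _ h
    exact MulAction.injective g h
  · intro y hy
    refine ⟨g⁻¹ • y, orbital_base.1 ((orbital_smul g).1 ?_), smul_inv_smul g y⟩
    rwa [smul_inv_smul]

theorem symm {x y : Ω} (h : Orbital G a b x y) : Orbital G a b y x := by
  classical
  set I := {z | Orbital G a b z a}
  have hconst : ∀ w : Ω, {z | Orbital G a b z w}.ncard = I.ncard := by
    intro w
    obtain ⟨g, rfl⟩ := hs.move w
    refine (Set.ncard_congr (fun z _ => g • z) ?_ ?_ ?_).symm
    · intro z hz; exact (orbital_smul g).2 hz
    · intro z z' _ _ e; exact MulAction.injective g e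
    · intro z hz
      refine ⟨g⁻¹ • z, (orbital_smul g).1 ?_, smul_inv_smul g z⟩
      rw [smul_inv_smul]
      exact hz
  have hcount : I.ncard = 1755 := by
    have h := Finset.sum_card_bipartiteAbove_eq_sum_card_bipartiteBelow
      (Orbital G a b) (s := Finset.univ) (t := Finset.univ)
    have h1 : ∀ z : Ω, (Finset.univ.bipartiteAbove (Orbital G a b) z).card = 1755 := by
      intro z
      rw [← hs.nbr_card z, ← Set.ncard_coe_finset]
      congr 1
      ext w
      simp [Finset.mem_bipartiteAbove]
    have h2 : ∀ z : Ω, (Finset.univ.bipartiteBelow (Orbital G a b) z).card = I.ncard := by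
      intro z
      rw [← hconst z, ← Set.ncard_coe_finset]
      congr 1
      ext w
      simp [Finset.mem_bipartiteBelow]
    simp only [h1, h2, Finset.sum_const, Finset.card_univ, hs.card, smul_eq_mul] at h
    omega
  have hI : I = MulAction.orbit (MulAction.stabilizer G a) b := by
    refine Set.eq_of_subset_of_ncard_le (fun z hz => ?_) (by rw [hs.gamma, hcount]) (Set.toFinite _)
    rcases hs.cases z with rfl | h' | h'
    · exact absurd hz (hs.irrefl z)
    · exact h'
    · exfalso
      have hsub : MulAction.orbit (MulAction.stabilizer G a) c ⊆ I := by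
        rw [← MulAction.orbit_eq_iff.2 h']
        rintro _ ⟨g, rfl⟩
        have : Orbital G a b ((g : G) • z) ((g : G) • a) := (orbital_smul g.1).2 hz
        rw [show (g : G) • a = a from g.2] at this
        exact this
      have := Set.ncard_le_ncard hsub (Set.toFinite _)
      rw [hs.delta, hcount] at this
      omega
  obtain ⟨g, rfl⟩ := hs.move x
  have hy : Orbital G a b a (g⁻¹ • y) := (orbital_smul g).1 (by rwa [smul_inv_smul])
  have hy' : g⁻¹ • y ∈ I := hI ▸ orbital_base.1 hy
  have := (orbital_smul g).2 hy'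
  rwa [smul_inv_smul] at this

theorem ab : Orbital G a b a b := ⟨1, one_smul _ _, one_smul _ _⟩

theorem ba : Orbital G a b b a := hs.symm hs.ab

/-- The neighbours of a point next to the base point. -/
theorem lam_add {x : Ω} (hx : x ∈ MulAction.orbit (MulAction.stabilizer G a) b) :
    {y | y ∈ MulAction.orbit (MulAction.stabilizer G a) b ∧ Orbital G a b x y}.ncard +
      {y | y ∈ MulAction.orbit (MulAction.stabilizer G a) c ∧ Orbital G a b x y}.ncard = 1754 := by
  have hd : Disjoint {y | y ∈ MulAction.orbit (MulAction.stabilizer G a) b ∧ Orbital G a b x y}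
      {y | y ∈ MulAction.orbit (MulAction.stabilizer G a) c ∧ Orbital G a b x y} :=
    Set.disjoint_left.2 fun y h1 h2 => Set.disjoint_left.1 hs.disjoint_orbits h1.1 h2.1
  rw [← Set.ncard_union_eq hd]
  have e : {y | Orbital G a b x y} = insert a
      ({y | y ∈ MulAction.orbit (MulAction.stabilizer G a) b ∧ Orbital G a b x y} ∪
       {y | y ∈ MulAction.orbit (MulAction.stabilizer G a) c ∧ Orbital G a b x y}) := by
    ext y
    simp only [Set.mem_insert_iff, Set.mem_union, Set.mem_setOf_eq]
    constructor
    · intro hy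
      rcases hs.cases y with h | h | h
      · exact Or.inl h
      · exact Or.inr (Or.inl ⟨h, hy⟩)
      · exact Or.inr (Or.inr ⟨h, hy⟩)
    · rintro (rfl | h | h)
      · exact hs.symm (orbital_base.2 hx)
      · exact h.2
      · exact h.2
  have h := hs.nbr_card x
  rw [e, Set.ncard_insert_of_notMem (by simp [hs.self_not_gamma, hs.self_not_delta])] at h
  omega

/-- The number of neighbours among the points at distance two does not depend on the point. -/
theorem delta_nbr {x : Ω} (hx : x ∈ MulAction.orbit (MulAction.stabilizer G a) b) :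
    {y | y ∈ MulAction.orbit (MulAction.stabilizer G a) c ∧ Orbital G a b x y}.ncard =
      {y | y ∈ MulAction.orbit (MulAction.stabilizer G a) c ∧ Orbital G a b b y}.ncard := by
  obtain ⟨g, rfl⟩ := hx
  refine (Set.ncard_congr (fun y _ => g • y) ?_ ?_ ?_).symm
  · rintro y ⟨hy, hA⟩
    refine ⟨?_, (orbital_smul g.1).2 hA⟩
    rw [← MulAction.orbit_eq_iff.2 hy]
    exact ⟨g, rfl⟩
  · intro y z _ _ h
    exact MulAction.injective g h
  · rintro y ⟨hy, hA⟩
    refine ⟨g⁻¹ • y, ⟨?_, (orbital_smul g.1).1 ?_⟩, smul_inv_smul g y⟩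
    · rw [← MulAction.orbit_eq_iff.2 hy]; exact ⟨g⁻¹, rfl⟩
    · have : (g : G) • (g⁻¹ • y) = y := smul_inv_smul g y
      rw [this]; exact hA

/-- Double counting of the edges between the two suborbits. -/
theorem count {x : Ω} (hx : x ∈ MulAction.orbit (MulAction.stabilizer G a) c) :
    1755 * {y | y ∈ MulAction.orbit (MulAction.stabilizer G a) c ∧ Orbital G a b b y}.ncard =
      2304 * {y | y ∈ MulAction.orbit (MulAction.stabilizer G a) b ∧ Orbital G a b x y}.ncard := by
  classical
  have hx' := hs.delta
  rw [← MulAction.orbit_eq_iff.2 hx] at hx'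
  have hconst : ∀ y ∈ MulAction.orbit (MulAction.stabilizer G a) c,
      {z | z ∈ MulAction.orbit (MulAction.stabilizer G a) b ∧ Orbital G a b y z}.ncard =
      {z | z ∈ MulAction.orbit (MulAction.stabilizer G a) b ∧ Orbital G a b x z}.ncard := by
    intro y hy
    rw [← MulAction.orbit_eq_iff.2 hx] at hy
    obtain ⟨g, rfl⟩ := hy
    refine (Set.ncard_congr (fun z _ => g • z) ?_ ?_ ?_).symm
    · rintro z ⟨hz, hA⟩
      refine ⟨?_, (orbital_smul g.1).2 hA⟩
      rw [← MulAction.orbit_eq_iff.2 hz]; exact ⟨g, rfl⟩
    · intro z w _ _ h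
      exact MulAction.injective g h
    · rintro z ⟨hz, hA⟩
      refine ⟨g⁻¹ • z, ⟨?_, (orbital_smul g.1).1 ?_⟩, smul_inv_smul g z⟩
      · rw [← MulAction.orbit_eq_iff.2 hz]; exact ⟨g⁻¹, rfl⟩
      · have : (g : G) • (g⁻¹ • z) = z := smul_inv_smul g z
        rw [this]; exact hA
  set Γ := (MulAction.orbit (MulAction.stabilizer G a) b).toFinset
  set Δ := (MulAction.orbit (MulAction.stabilizer G a) c).toFinset
  have h := Finset.sum_card_bipartiteAbove_eq_sum_card_bipartiteBelow
    (Orbital G a b) (s := Γ) (t := Δ)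
  have h1 : ∀ z ∈ Γ, (Δ.bipartiteAbove (Orbital G a b) z).card =
      {y | y ∈ MulAction.orbit (MulAction.stabilizer G a) c ∧ Orbital G a b b y}.ncard := by
    intro z hz
    rw [← hs.delta_nbr (Set.mem_toFinset.1 hz), ← Set.ncard_coe_finset]
    congr 1
    ext w
    simp [Finset.mem_bipartiteAbove, Δ]
  have h2 : ∀ z ∈ Δ, (Γ.bipartiteBelow (Orbital G a b) z).card =
      {y | y ∈ MulAction.orbit (MulAction.stabilizer G a) b ∧ Orbital G a b x y}.ncard := by
    intro z hz
    rw [← hconst z (Set.mem_toFinset.1 hz), ← Set.ncard_coe_finset]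
    congr 1
    ext w
    simp only [Finset.coe_filter, Finset.bipartiteBelow, Set.mem_setOf_eq, Γ, Set.mem_toFinset]
    exact and_congr_right fun _ => ⟨hs.symm, hs.symm⟩
  rw [Finset.sum_congr rfl h1, Finset.sum_congr rfl h2] at h
  simp only [Finset.sum_const, smul_eq_mul, Γ, Δ, ← Set.ncard_eq_toFinset_card'] at h
  rw [hs.gamma, hs.delta] at h
  exact h

/-- Not every neighbour of the base point's neighbour is next to the base point. -/
theorem lam_ne :
    {y | y ∈ MulAction.orbit (MulAction.stabilizer G a) c ∧ Orbital G a b b y}.ncard ≠ 0 := by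
  intro h0
  set B := insert a (MulAction.orbit (MulAction.stabilizer G a) b) with hB
  have hBcard : B.ncard = 1756 := by
    rw [hB, Set.ncard_insert_of_notMem hs.self_not_gamma, hs.gamma]
  have hclosed : ∀ z ∈ B, insert z {y | Orbital G a b z y} = B := by
    intro z hz
    refine Set.eq_of_subset_of_ncard_le ?_ ?_ (Set.toFinite _)
    · rintro y (rfl | hy)
      · exact hz
      · rcases hz with rfl | hz
        · exact Or.inr (orbital_base.1 hy)
        · rcases hs.cases y with h | h | h
          · exact Or.inl h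
          · exact Or.inr h
          · exfalso
            have hz0 := hs.delta_nbr hz
            rw [h0, Set.ncard_eq_zero (Set.toFinite _), Set.eq_empty_iff_forall_notMem] at hz0
            exact hz0 y ⟨h, hy⟩
    · rw [hBcard, Set.ncard_insert_of_notMem (by exact hs.irrefl z), hs.nbr_card]
  have hblock : ∀ g : G, (g • a) ∈ B → ∀ x ∈ B, g • x ∈ B := by
    intro g hg x hx
    rw [← hclosed _ hg]
    rcases hx with rfl | hx
    · exact Set.mem_insert _ _
    · exact Or.inr ((orbital_smul g).2 (orbital_base.2 hx))
  have hB' : MulAction.IsBlock G B := by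
    refine MulAction.isBlock_iff_smul_eq_of_mem.2 fun g x hx hgx => ?_
    have key : ∀ k : G, k • a ∈ B → k • B = B := fun k hk => by
      refine Set.eq_of_subset_of_ncard_le ?_ ?_ (Set.toFinite _)
      · rintro _ ⟨y, hy, rfl⟩; exact hblock k hk y hy
      · rw [Set.ncard_smul_set]
    obtain ⟨k, rfl⟩ := hs.move x
    have h1 := key k hx
    have h2 := key (g * k) (by rwa [mul_smul])
    rw [mul_smul, h1] at h2
    exact h2
  haveI := hs.trans
  have hd := hB'.ncard_dvd_card ⟨a, Set.mem_insert _ _⟩
  rw [hBcard, Nat.card_eq_fintype_card, hs.card] at hd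
  norm_num at hd

end Shape

end Cfsg.Agent.H90.Rudv
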