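import Cfsg.Agent.H90.Rudv.Delta
import Cfsg.Agent.H90.Rudv.Rank3

/-!
A rank three group on 4060 points with point stabiliser the stabiliser of the Rudvalis graph is
the group of automorphisms of that graph.
-/

set_option autoImplicit false
set_option maxRecDepth 20000

namespace Cfsg.Agent.H90.Rudv

open Cfsg.Agent.PGroups.Ru

variable {Ω : Type*} [Fintype Ω] {G : Subgroup (Equiv.Perm Ω)} {a b c : Ω}

/-- Corresponding orbits of isomorphic stabilisers. -/
theorem transfer {Γ X : Type*} [Group Γ] [MulAction Γ X] (ρ : Γ ≃* ↥fix1)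
    {p : Fin 4060} {M : Set (Fin 4060)} (hM : MulAction.orbit fix1 p = M) (q : X)
    (hst : ∀ g, ((ρ g : fix1) : Equiv.Perm (Fin 4060)) p = p ↔ g • q = q) :
    ∃ f : Fin 4060 → X, f p = q ∧
      (∀ σ : fix1, ∀ x ∈ M, f ((σ : Equiv.Perm (Fin 4060)) x) = ρ.symm σ • f x) ∧
      Set.InjOn f M ∧ f '' M = MulAction.orbit Γ q := by
  classical
  have hex : ∀ x, ∃ y : X, x ∈ M →
      ∃ σ : fix1, (σ : Equiv.Perm (Fin 4060)) p = x ∧ ρ.symm σ • q = y := by
    intro x
    by_cases hx : x ∈ M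
    · rw [← hM] at hx
      obtain ⟨σ, hσ⟩ := hx
      exact ⟨ρ.symm σ • q, fun _ => ⟨σ, hσ, rfl⟩⟩
    · exact ⟨q, fun h => absurd h hx⟩
  choose f hf using hex
  have hpM : p ∈ M := hM ▸ MulAction.mem_orbit_self p
  have hkey : ∀ σ τ : fix1, (σ : Equiv.Perm (Fin 4060)) p = (τ : Equiv.Perm (Fin 4060)) p ↔
      ρ.symm σ • q = ρ.symm τ • q := by
    intro σ τ
    have h := hst (ρ.symm (σ⁻¹ * τ))
    rw [MulEquiv.apply_symm_apply, map_mul, map_inv, mul_smul, inv_smul_eq_iff] at h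
    rw [eq_comm (a := ρ.symm σ • q), ← h]
    show _ ↔ (σ.1⁻¹ * τ.1) p = p
    rw [Equiv.Perm.mul_apply, Equiv.Perm.inv_def, Equiv.symm_apply_eq, eq_comm]
  have hval : ∀ σ : fix1, f ((σ : Equiv.Perm (Fin 4060)) p) = ρ.symm σ • q := by
    intro σ
    have hm : (σ : Equiv.Perm (Fin 4060)) p ∈ M := hM ▸ ⟨σ, rfl⟩
    obtain ⟨τ, hτ, hτf⟩ := hf _ hm
    rw [← hτf]
    exact (hkey τ σ).1 hτ
  have h1 : f p = q := by
    have := hval 1
    rwa [map_one, one_smul] at this
  refine ⟨f, h1, fun σ x hx => ?_, fun x hx y hy he => ?_, ?_⟩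
  · rw [← hM] at hx
    obtain ⟨τ, rfl⟩ := hx
    show f ((σ : Equiv.Perm (Fin 4060)) ((τ : Equiv.Perm (Fin 4060)) p)) =
      ρ.symm σ • f ((τ : Equiv.Perm (Fin 4060)) p)
    have h2 := hval (σ * τ)
    rw [Subgroup.coe_mul, Equiv.Perm.mul_apply] at h2
    rw [h2, hval τ, map_mul, mul_smul]
  · rw [← hM] at hx hy
    obtain ⟨σ, rfl⟩ := hx
    obtain ⟨τ, rfl⟩ := hy
    show (σ : Equiv.Perm (Fin 4060)) p = (τ : Equiv.Perm (Fin 4060)) p
    refine (hkey σ τ).2 ?_
    rw [← hval σ, ← hval τ]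
    exact he
  · ext y
    constructor
    · rintro ⟨x, hx, rfl⟩
      rw [← hM] at hx
      obtain ⟨σ, rfl⟩ := hx
      exact ⟨ρ.symm σ, (hval σ).symm⟩
    · rintro ⟨g, rfl⟩
      refine ⟨(ρ g : Equiv.Perm (Fin 4060)) p, hM ▸ ⟨ρ g, rfl⟩, ?_⟩
      rw [hval, MulEquiv.symm_apply_apply]

/-- The stabiliser of a point of the smaller suborbit can be taken to be the standard one. -/
theorem exists_rho (hs : Shape G a b c) (e : MulAction.stabilizer G a ≃* ↥fix1) :
    ∃ ρ : MulAction.stabilizer G a ≃* ↥fix1,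
      ∀ g, ((ρ g : fix1) : Equiv.Perm (Fin 4060)) (fp 4059) = fp 4059 ↔ g • b = b := by
  set P := MulAction.stabilizer (MulAction.stabilizer G a) b
  have hP : Nat.card P = 20480 := by
    have h := P.card_mul_index
    rw [MulAction.index_stabilizer, hs.gamma, Nat.card_congr e.toEquiv, card_fix1] at h
    omega
  set H : Subgroup (Equiv.Perm (Fin 4060)) := (P.map e.toMonoidHom).map fix1.subtype with hH
  have hHle : H ≤ fix1 := by
    rintro z ⟨y, -, rfl⟩; exact y.2
  have hHc : Nat.card H = 20480 := by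
    rw [hH, Subgroup.card_map_of_injective fix1.subtype_injective,
      Subgroup.card_map_of_injective (show Function.Injective e.toMonoidHom from e.injective), hP]
  obtain ⟨σ, hσ, hmap⟩ := conj_fix2 hHle hHc
  refine ⟨e.trans (MulAut.conj (⟨σ, hσ⟩ : fix1)), fun g => ?_⟩
  have hv : ((e.trans (MulAut.conj (⟨σ, hσ⟩ : fix1)) g : fix1) : Equiv.Perm (Fin 4060)) =
      σ * (e g : Equiv.Perm (Fin 4060)) * σ⁻¹ := rfl
  constructor
  · intro h
    have hm : σ * (e g : Equiv.Perm (Fin 4060)) * σ⁻¹ ∈ fix2 :=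
      ⟨fix1.mul_mem (fix1.mul_mem hσ (e g).2) (fix1.inv_mem hσ), by rw [← hv]; exact h⟩
    rw [← hmap] at hm
    obtain ⟨z, hz, hze⟩ := hm
    obtain ⟨y, hy, rfl⟩ := hz
    obtain ⟨k, hk, rfl⟩ := hy
    have : (e k : Equiv.Perm (Fin 4060)) = (e g : Equiv.Perm (Fin 4060)) :=
      (MulAut.conj σ).injective hze
    have hkg : k = g := e.injective (Subtype.ext this)
    exact hkg ▸ hk
  · intro h
    have hm : σ * (e g : Equiv.Perm (Fin 4060)) * σ⁻¹ ∈ fix2 := by
      rw [← hmap]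
      exact ⟨_, ⟨_, ⟨g, h, rfl⟩, rfl⟩, rfl⟩
    rw [hv]
    exact hm.2

/-- A bijection with the points of the graph preserving the orbital. -/
theorem exists_iso (hs : Shape G a b c) (e : MulAction.stabilizer G a ≃* ↥fix1) :
    ∃ Φ : Fin 4060 ≃ Ω, ∀ x y, Orbital G a b (Φ x) (Φ y) ↔ R x y := by
  classical
  obtain ⟨ρ, hρ⟩ := exists_rho hs e
  obtain ⟨f, fb, fsm, finj, fim⟩ := transfer ρ (orbit_fix1_gamma mem_gamma_4059) b hρ
  set Γ := MulAction.orbit (MulAction.stabilizer G a) b with hΓ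
  set Δ := MulAction.orbit (MulAction.stabilizer G a) c with hΔ
  have fsm' : ∀ g : MulAction.stabilizer G a, ∀ x ∈ mset (tMask 1),
      f ((ρ g : Equiv.Perm (Fin 4060)) x) = (g : G) • f x := fun g x hx => by
    rw [fsm _ x hx, ρ.symm_apply_apply]; rfl
  have fmem : ∀ x ∈ mset (tMask 1), f x ∈ Γ := fun x hx => fim ▸ Set.mem_image_of_mem f hx
  have hmove : ∀ u ∈ mset (tMask 1), ∃ k : MulAction.stabilizer G a,
      (ρ k : Equiv.Perm (Fin 4060)) (fp 4059) = u ∧ (k : G) • b = f u := by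
    intro u hu
    rw [← orbit_fix1_gamma mem_gamma_4059] at hu
    obtain ⟨σ, rfl⟩ := hu
    refine ⟨ρ.symm σ, by rw [ρ.apply_symm_apply]; rfl, ?_⟩
    show (ρ.symm σ : G) • b = f ((σ : Equiv.Perm (Fin 4060)) (fp 4059))
    rw [fsm σ _ mem_gamma_4059, fb]
    rfl
  -- the neighbours of `b` among the neighbours of `a`
  set O : Set (Fin 4060) := {x | x ∈ mset (tMask 1) ∧ Orbital G a b b (f x)} with hO
  set T : Set Ω := {y | y ∈ Δ ∧ Orbital G a b b y} with hT
  set S : Set Ω := {y | y ∈ Γ ∧ Orbital G a b b y} with hS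
  have hOS : O.ncard = S.ncard := by
    refine Set.ncard_congr (fun x _ => f x) (fun x hx => ⟨fmem x hx.1, hx.2⟩)
      (fun x y hx hy h => finj hx.1 hy.1 h) fun y hy => ?_
    have hy' : y ∈ f '' mset (tMask 1) := by rw [fim]; exact hy.1
    obtain ⟨x, hx, rfl⟩ := hy'
    exact ⟨x, ⟨hx, hy.2⟩, rfl⟩
  have hOinv : ∀ σ ∈ fix2, ∀ x ∈ O, σ x ∈ O := by
    intro σ hσ x hx
    set g := ρ.symm ⟨σ, hσ.1⟩ with hg
    have hσ' : (ρ g : Equiv.Perm (Fin 4060)) = σ := by rw [hg, ρ.apply_symm_apply]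
    refine ⟨?_, ?_⟩
    · show (tMask 1).testBit (σ x).1 = true
      rw [pres_tMask1 hσ.1]; exact hx.1
    · rw [← hσ', fsm' g x hx.1]
      have hgb : (g : G) • b = b := (hρ g).1 (by rw [hσ']; exact hσ.2)
      have h := (orbital_smul g.1).2 hx.2
      rwa [hgb] at h
  have hadd : S.ncard + T.ncard = 1754 := hs.lam_add (MulAction.mem_orbit_self b)
  have hT0 : T.ncard ≠ 0 := hs.lam_ne
  have hlam : O.ncard = 730 ∧ O = mset lamMask := by
    have hcnt := hs.count (MulAction.mem_orbit_self c)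
    have hcnt' : 1755 * T.ncard = 2304 *
        {y | y ∈ Γ ∧ Orbital G a b c y}.ncard := hcnt
    have h256 : 256 ∣ T.ncard :=
      (Nat.Coprime.dvd_mul_left (show Nat.Coprime 256 1755 by norm_num)).1
        ⟨9 * {y | y ∈ Γ ∧ Orbital G a b c y}.ncard, by rw [hcnt']; ring⟩
    have hmod : O.ncard % 256 = 218 := by omega
    rcases lam_cases O hOinv (fun x hx => ⟨hx.1, fun hxe => hs.irrefl b
      (by have h := hx.2; rwa [hxe, fb] at h)⟩) hmod with h | h
    · exfalso; omega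
    · exact h
  have hSc : S.ncard = 730 := by rw [← hOS]; exact hlam.1
  have hTc : T.ncard = 1024 := by omega
  have hgg : ∀ u ∈ mset (tMask 1), ∀ v ∈ mset (tMask 1),
      (Orbital G a b (f u) (f v) ↔ R u v) := by
    intro u hu v hv
    obtain ⟨k, hk, hkb⟩ := hmove u hu
    set v' := (ρ k : Equiv.Perm (Fin 4060))⁻¹ v with hv'
    have hv'm : v' ∈ mset (tMask 1) := by
      show (tMask 1).testBit v'.1 = true
      rw [hv', pres_tMask1 (inv_mem (ρ k).2)]; exact hv
    have hvv : (ρ k : Equiv.Perm (Fin 4060)) v' = v := by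
      rw [hv', Equiv.Perm.inv_def, Equiv.apply_symm_apply]
    rw [← hkb, ← hvv, fsm' k v' hv'm, orbital_smul, ← hk, R_aut (ρ k).2.1]
    constructor
    · intro h
      exact ((mem_lam v').1 (hlam.2 ▸ (⟨hv'm, h⟩ : v' ∈ O))).2
    · intro h
      have : v' ∈ O := hlam.2 ▸ (mem_lam v').2 ⟨hv'm, h⟩
      exact this.2
  -- the stabiliser of two adjacent points is transitive on a piece
  obtain ⟨s, hsb, hsa⟩ := hs.ba
  have hsix : ∀ y ∈ T, ∃ z ∈ mset (tMask 6), f z = s • y := by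
    intro y hy
    have hA : Orbital G a b a (s • y) := by
      have h := (orbital_smul s).2 hy.2
      rwa [hsa] at h
    have hz' : s • y ∈ f '' mset (tMask 1) := by rw [fim]; exact orbital_base.1 hA
    obtain ⟨z, hz, hzy⟩ := hz'
    refine ⟨z, ?_, hzy⟩
    rcases gamma_split hz with rfl | ⟨i, hi, hzi⟩
    · exfalso
      rw [fb, ← hsb] at hzy
      exact Set.disjoint_left.1 (Set.disjoint_singleton_left.2 hs.self_not_delta)
        (Set.mem_singleton_iff.2 (MulAction.injective s hzy).symm) hy.1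
    · have hnl : z ∉ mset lamMask := by
        intro hl
        have h2 : z ∈ O := hlam.2.symm ▸ hl
        have h3 := h2.2
        rw [hzy] at h3
        have h4 : Orbital G a b (s • a) (s • y) := by rw [hsb]; exact h3
        rw [orbital_smul, orbital_base] at h4
        replace h3 := h4
        exact Set.disjoint_left.1 hs.disjoint_orbits h3 hy.1
      simp only [List.mem_cons, List.not_mem_nil, or_false] at hi
      have hzb : (tMask i).testBit z.1 = true := hzi
      rcases hi with rfl | rfl | rfl | rfl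
      · exact hzi
      all_goals
        exfalso
        apply hnl
        show lamMask.testBit z.1 = true
        simp [lamMask, Nat.testBit_or, hzb]
  have htrans : ∀ x ∈ T, ∀ y ∈ T, ∃ g : MulAction.stabilizer G a,
      (g : G) • b = b ∧ (g : G) • x = y := by
    intro x hx y hy
    obtain ⟨u, hu, hux⟩ := hsix x hx
    obtain ⟨v, hv, hvy⟩ := hsix y hy
    have hv' : v ∈ MulAction.orbit fix2 u := by rw [orbit_fix2_piece (by simp) hu]; exact hv
    obtain ⟨σ, hσ⟩ := hv'
    set g := ρ.symm ⟨σ.1, σ.2.1⟩ with hg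
    have hσ' : (ρ g : Equiv.Perm (Fin 4060)) = σ.1 := by rw [hg, ρ.apply_symm_apply]
    have hgb : (g : G) • b = b := (hρ g).1 (by rw [hσ']; exact σ.2.2)
    have hga : (g : G) • a = a := g.2
    have hfv : f v = (g : G) • f u := by
      rw [← fsm' g u (piece_gamma (by simp) hu), hσ']
      exact congrArg f hσ.symm
    have hab : s • b = a := hsa
    have hba : s • a = b := hsb
    refine ⟨⟨s⁻¹ * (g : G) * s, ?_⟩, ?_, ?_⟩
    · show (s⁻¹ * (g : G) * s) • a = a
      rw [mul_smul, mul_smul, hba, hgb, ← hba, inv_smul_smul]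
    · show (s⁻¹ * (g : G) * s) • b = b
      rw [mul_smul, mul_smul, hab, hga, ← hab, inv_smul_smul]
    · show (s⁻¹ * (g : G) * s) • x = y
      rw [mul_smul, mul_smul, ← hux, ← hfv, hvy, inv_smul_smul]
  set P := MulAction.stabilizer (MulAction.stabilizer G a) b with hP
  have hGa : Nat.card (MulAction.stabilizer G a) = 35942400 := by
    rw [Nat.card_congr e.toEquiv, card_fix1]
  have hPc : Nat.card P = 20480 := by
    have h := P.card_mul_index
    rw [MulAction.index_stabilizer, hs.gamma, hGa] at h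
    omega
  have hPT : ∀ g ∈ P, ∀ y ∈ T, (g : G) • y ∈ T := by
    intro g hg y hy
    have hgb : (g : G) • b = b := hg
    refine ⟨?_, ?_⟩
    swap
    · have h := (orbital_smul g.1).2 hy.2
      rwa [hgb] at h
    rw [hΔ, ← MulAction.orbit_eq_iff.2 hy.1]
    exact ⟨g, rfl⟩
  have horbT : ∀ y ∈ T, MulAction.orbit P y = T := by
    intro y hy
    ext z
    constructor
    · rintro ⟨g, rfl⟩; exact hPT g.1 g.2 y hy
    · intro hz
      obtain ⟨g, hgb, hgy⟩ := htrans y hy z hz
      exact ⟨⟨g, hgb⟩, hgy⟩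
  obtain ⟨c0, hc0⟩ := Set.nonempty_of_ncard_ne_zero hT0
  have hL : ∀ y ∈ T, Nat.card ↥(P ⊓ MulAction.stabilizer (MulAction.stabilizer G a) y) = 20 := by
    intro y hy
    have h := card_orbit_inf P y
    rw [horbT y hy, hTc, hPc] at h
    omega
  -- a point of `T` fixed by the element of order five
  haveI h5 : Fact (Nat.Prime 5) := ⟨by norm_num⟩
  have hfac : (Nat.card fix2).factorization 5 = 1 := by
    rw [card_fix2, show (20480 : ℕ) = 5 ^ 1 * 4096 by norm_num,
      Nat.factorization_mul (by norm_num) (by norm_num), Nat.factorization_pow]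
    simp [h5.out.factorization_self,
      Nat.factorization_eq_zero_of_not_dvd (show ¬ 5 ∣ 4096 by norm_num)]
  obtain ⟨c1, hc1, hec1⟩ : ∃ y ∈ T, ρ.symm ⟨eP, eP_mem.1.1⟩ • y = y := by
    obtain ⟨x, hx⟩ := exists_prime_orderOf_dvd_card'
      (G := ↥(P ⊓ MulAction.stabilizer (MulAction.stabilizer G a) c0)) 5
      (by rw [hL c0 hc0]; norm_num)
    have hx0 : (x.1 : MulAction.stabilizer G a) • c0 = c0 := x.2.2
    have hxb : (x.1 : MulAction.stabilizer G a) • b = b := x.2.1
    set xr : fix2 := ⟨ρ x.1, (ρ x.1).2, (hρ x.1).2 hxb⟩ with hxr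
    have hxo : orderOf xr = 5 := by
      rw [← Subgroup.orderOf_coe xr]
      show orderOf ((ρ x.1 : fix1) : Equiv.Perm (Fin 4060)) = 5
      rw [Subgroup.orderOf_coe, MulEquiv.orderOf_eq, Subgroup.orderOf_coe, hx]
    have heo : orderOf (⟨eP, eP_mem.1⟩ : fix2) = 5 := by rw [Subgroup.orderOf_mk, eP_order]
    obtain ⟨p, hp⟩ := MulAction.exists_smul_eq fix2
      (Sylow.ofCard (Subgroup.zpowers xr) (by rw [Nat.card_zpowers, hxo, hfac, pow_one]))
      (Sylow.ofCard (Subgroup.zpowers (⟨eP, eP_mem.1⟩ : fix2))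
        (by rw [Nat.card_zpowers, heo, hfac, pow_one]))
    have hmem : (⟨eP, eP_mem.1⟩ : fix2) ∈
        (Subgroup.zpowers xr).map (MulAut.conj p).toMonoidHom := by
      have h : (⟨eP, eP_mem.1⟩ : fix2) ∈ ((p • Sylow.ofCard (Subgroup.zpowers xr)
          (by rw [Nat.card_zpowers, hxo, hfac, pow_one]) : Sylow 5 fix2) : Subgroup fix2) := by
        rw [hp]; exact Subgroup.mem_zpowers _
      exact h
    obtain ⟨z, hz, hze⟩ := hmem
    obtain ⟨k, rfl⟩ := Subgroup.mem_zpowers_iff.1 hz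
    set q := ρ.symm ⟨p.1, p.2.1⟩ with hq
    have hqe : ρ.symm ⟨eP, eP_mem.1.1⟩ = q * x.1 ^ k * q⁻¹ := by
      apply ρ.injective
      rw [ρ.apply_symm_apply, map_mul, map_mul, map_zpow, map_inv, hq, ρ.apply_symm_apply]
      apply Subtype.ext
      have h := congrArg Subtype.val hze
      simp only [MulEquiv.coe_toMonoidHom, MulAut.conj_apply] at h
      simp only [Subgroup.coe_mul, Subgroup.coe_inv, Subgroup.coe_zpow] at h ⊢
      exact h.symm
    have hqP : q ∈ P := (hρ q).1 (by rw [hq, ρ.apply_symm_apply]; exact p.2.2)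
    refine ⟨(q : G) • c0, hPT q hqP c0 hc0, ?_⟩
    rw [hqe]
    show (q * x.1 ^ k * q⁻¹) • (q • c0) = q • c0
    rw [mul_smul, inv_smul_smul, mul_smul,
      MulAction.zpow_smul_eq_iff_minimalPeriod_dvd.2 (by
        rw [Function.minimalPeriod_eq_one_iff_isFixedPt.2 hx0]; simp)]
  set Q := MulAction.stabilizer (MulAction.stabilizer G a) c1 with hQ
  have hQc : Nat.card Q = 15600 := by
    have h := Q.card_mul_index
    rw [MulAction.index_stabilizer, MulAction.orbit_eq_iff.2 hc1.1, hs.delta, hGa] at h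
    omega
  have hW : MulAction.orbit Q b = {y | y ∈ Γ ∧ Orbital G a b c1 y} := by
    refine Set.eq_of_subset_of_ncard_le ?_ ?_ (Set.toFinite _)
    · rintro _ ⟨g, rfl⟩
      refine ⟨MulAction.mem_orbit b g.1, ?_⟩
      have hgc : ((g.1 : MulAction.stabilizer G a) : G) • c1 = c1 := g.2
      show Orbital G a b c1 (((g.1 : MulAction.stabilizer G a) : G) • b)
      have h := (orbital_smul ((g.1 : MulAction.stabilizer G a) : G)).2 (hs.symm hc1.2)
      rwa [hgc] at h
    · have h := card_orbit_inf Q b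
      rw [hQc, inf_comm, ← hP, hL c1 hc1] at h
      have hcnt' : 1755 * T.ncard = 2304 *
          {y | y ∈ Γ ∧ Orbital G a b c1 y}.ncard := hs.count hc1.1
      omega
  -- a point of the small piece next to a point of `T`
  obtain ⟨z, hz9, hzW⟩ : ∃ z, z ∈ mset (tMask 9) ∧ f z ∈ MulAction.orbit Q b := by
    set x0 := fp (tRoot 9) with hx0'
    have hx9 : x0 ∈ mset (tMask 9) := nine_nonempty
    have hxl := (mem_lam x0).1 (nine_mem_lam hx9)
    obtain ⟨y, hy, hyx⟩ : ∃ y ∈ T, Orbital G a b (f x0) y := by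
      by_contra hne
      simp only [not_exists, not_and] at hne
      have hxb : Orbital G a b b (f x0) := by
        have := (hgg _ mem_gamma_4059 _ hxl.1).2 hxl.2
        rwa [fb] at this
      set C := {y | Orbital G a b b y ∧ Orbital G a b (f x0) y} with hC
      set D : Set (Fin 4060) := {u | u ∈ mset (tMask 1) ∧ R (fp 4059) u ∧ R x0 u} with hD
      have hCsub : C = insert a (f '' D) := by
        ext y
        constructor
        · rintro ⟨h1, h2⟩
          rcases hs.cases y with h | h | h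
          · exact Or.inl h
          · have hy' : y ∈ f '' mset (tMask 1) := by rw [fim]; exact h
            obtain ⟨u, hu, rfl⟩ := hy'
            refine Or.inr ⟨u, ⟨hu, ?_, (hgg _ hxl.1 _ hu).1 h2⟩, rfl⟩
            exact (hgg _ mem_gamma_4059 _ hu).1 (by rwa [fb])
          · exact absurd h2 (hne y ⟨h, h1⟩)
        · rintro (rfl | ⟨u, ⟨hu, h1, h2⟩, rfl⟩)
          · exact ⟨hs.ba, hs.symm (orbital_base.2 (fmem _ hxl.1))⟩
          · refine ⟨?_, (hgg _ hxl.1 _ hu).2 h2⟩
            have := (hgg _ mem_gamma_4059 _ hu).2 h1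
            rwa [fb] at this
      obtain ⟨g, hga, hgb⟩ := hxb
      have hCc : C.ncard = S.ncard := by
        refine (Set.ncard_congr (fun y _ => g • y) ?_ ?_ ?_).symm
        · intro y hy
          refine ⟨?_, ?_⟩
          · have h := (orbital_smul g).2 (orbital_base.2 hy.1)
            rwa [hga] at h
          · have h := (orbital_smul g).2 hy.2
            rwa [hgb] at h
        · intro y y' _ _ h
          exact MulAction.injective g h
        · rintro y ⟨h1, h2⟩
          refine ⟨g⁻¹ • y, ⟨?_, ?_⟩, smul_inv_smul g y⟩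
          · have h : Orbital G a b (g • a) (g • g⁻¹ • y) := by
              rw [hga, smul_inv_smul]; exact h1
            exact orbital_base.1 ((orbital_smul g).1 h)
          · have h : Orbital G a b (g • b) (g • g⁻¹ • y) := by
              rw [hgb, smul_inv_smul]; exact h2
            exact (orbital_smul g).1 h
      have hna : a ∉ f '' D := by
        rintro ⟨u, hu, hua⟩
        have h := fmem u hu.1
        rw [hua] at h
        exact hs.self_not_gamma h
      rw [hCsub, Set.ncard_insert_of_notMem hna,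
        Set.ncard_image_of_injOn (finj.mono fun u hu => hu.1), hSc] at hCc
      have hcm := List.all_eq_true.1 common_cert x0.1
        (List.mem_filter.2 ⟨List.mem_range.2 x0.2, hx9⟩)
      rw [Bool.not_eq_true', beq_eq_false_iff_ne, countP_members] at hcm
      apply hcm
      rw [← Set.ncard_coe_finset]
      convert hCc using 3
      ext u
      simp only [hD, mset, R, Finset.coe_filter, Finset.mem_univ, true_and, Set.mem_setOf_eq,
        Bool.and_eq_true, Bool.not_eq_true', beq_eq_false_iff_ne, ne_eq, Fin.ext_iff,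
        fp_val (by norm_num : (4059 : ℕ) < 4060), eq_comm (a := u.1), and_assoc]
    obtain ⟨g, hgb, hgy⟩ := htrans y hy c1 hc1
    have hg2 : (ρ g : Equiv.Perm (Fin 4060)) ∈ fix2 := ⟨(ρ g).2, (hρ g).2 hgb⟩
    refine ⟨(ρ g : Equiv.Perm (Fin 4060)) x0, ?_, ?_⟩
    · show (tMask 9).testBit _ = true
      rw [pres_fix2 (by simp) hg2]; exact hx9
    · rw [hW]
      refine ⟨fmem _ ?_, ?_⟩
      · show (tMask 1).testBit _ = true
        rw [pres_tMask1 (ρ g).2]; exact hxl.1
      · rw [fsm' g x0 hxl.1, ← hgy, orbital_smul]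
        exact hs.symm hyx
  -- identify the stabiliser
  obtain ⟨h, hh⟩ := hzW
  set K : Subgroup (Equiv.Perm (Fin 4060)) := (Q.map ρ.toMonoidHom).map fix1.subtype with hKdef
  have hKle : K ≤ fix1 := by
    rintro u ⟨y, -, rfl⟩; exact y.2
  have hKc : Nat.card K = 15600 := by
    rw [hKdef, Subgroup.card_map_of_injective fix1.subtype_injective,
      Subgroup.card_map_of_injective (show Function.Injective ρ.toMonoidHom from ρ.injective), hQc]
  have hKmem : ∀ g, g ∈ Q ↔ (ρ g : Equiv.Perm (Fin 4060)) ∈ K := by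
    intro g
    constructor
    · exact fun hg => ⟨ρ g, ⟨g, hg, rfl⟩, rfl⟩
    · rintro ⟨y, ⟨k, hk, rfl⟩, hy⟩
      have : k = g := ρ.injective (Subtype.ext hy)
      exact this ▸ hk
  have heK : eP ∈ K := by
    have := (hKmem _).1 hec1
    rwa [ρ.apply_symm_apply] at this
  have hhz : (ρ h.1 : Equiv.Perm (Fin 4060)) (fp 4059) = z := by
    refine finj ?_ (piece_gamma (by simp) hz9) ?_
    · show (tMask 1).testBit _ = true
      rw [pres_tMask1 (ρ h.1).2]; exact mem_gamma_4059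
    · rw [fsm' h.1 _ mem_gamma_4059, fb]; exact hh
  obtain ⟨c', hc'2, hc'R, hKeq⟩ := stab_of_moving hKle hKc heK ((hKmem h.1).1 h.2)
    (by rw [hhz]; exact hz9)
  have hc'3 : c' ∈ MulAction.orbit fix2 (fp 4024) := by
    rw [orbit_fix2]; exact (mem_three c').2 ⟨hc'2, hc'R⟩
  obtain ⟨p, hp⟩ := hc'3
  set q := ρ.symm ⟨p.1, p.2.1⟩ with hq
  have hqp : (ρ q : Equiv.Perm (Fin 4060)) = p.1 := by rw [hq, ρ.apply_symm_apply]
  have hqP : q ∈ P := (hρ q).1 (by rw [hqp]; exact p.2.2)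
  set c2 := q⁻¹ • c1 with hc2def
  have hc2 : c2 ∈ T := hPT q⁻¹ (inv_mem hqP) c1 hc1
  have hst2 : ∀ g, ((ρ g : fix1) : Equiv.Perm (Fin 4060)) (fp 4024) = fp 4024 ↔ g • c2 = c2 := by
    intro g
    have h1 : g • c2 = c2 ↔ q * g * q⁻¹ ∈ Q := by
      rw [hQ, MulAction.mem_stabilizer_iff, mul_smul, mul_smul, ← hc2def]
      conv_rhs => rw [smul_eq_iff_eq_inv_smul, ← hc2def]
    rw [h1, hKmem, hKeq, map_mul, map_mul, map_inv]
    have hp' : (p : Equiv.Perm (Fin 4060)) (fp 4024) = c' := hp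
    constructor
    · intro hg
      refine ⟨(ρ q * ρ g * (ρ q)⁻¹).2, ?_⟩
      refine mem_stab.2 ?_
      rw [fp_fin]
      show (((ρ q : fix1) : Equiv.Perm (Fin 4060)) * (ρ g : Equiv.Perm (Fin 4060)) *
        ((ρ q : fix1) : Equiv.Perm (Fin 4060))⁻¹) c' = c'
      rw [hqp, ← hp', Equiv.Perm.mul_apply, Equiv.Perm.mul_apply, Equiv.Perm.inv_def,
        Equiv.symm_apply_apply, hg]
    · intro hg
      have hg' := mem_stab.1 hg.2
      rw [fp_fin] at hg'
      have hg'' : (((ρ q : fix1) : Equiv.Perm (Fin 4060)) * (ρ g : Equiv.Perm (Fin 4060)) *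
        ((ρ q : fix1) : Equiv.Perm (Fin 4060))⁻¹) c' = c' := hg'
      rw [hqp, ← hp', Equiv.Perm.mul_apply, Equiv.Perm.mul_apply, Equiv.Perm.inv_def,
        Equiv.symm_apply_apply] at hg''
      exact p.1.injective hg''
  obtain ⟨f2, f2c, f2sm, f2inj, f2im⟩ := transfer ρ (orbit_fix1_delta delta_4024) c2 hst2
  have horb2 : MulAction.orbit (MulAction.stabilizer G a) c2 = Δ :=
    MulAction.orbit_eq_iff.2 hc2.1
  rw [horb2] at f2im
  have f2mem : ∀ x ∈ mset (tMask 2), f2 x ∈ Δ := fun x hx => f2im ▸ Set.mem_image_of_mem f2 hx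
  -- the bijection
  set Φ : Fin 4060 → Ω := fun x =>
    if x = fp 0 then a else if x ∈ mset (tMask 1) then f x else f2 x with hΦ
  have hex : ∀ x, x = fp 0 ∨ x ∈ mset (tMask 1) ∨ x ∈ mset (tMask 2) := by
    intro x
    by_cases h0 : x = fp 0
    · exact Or.inl h0
    · by_cases h1 : x ∈ mset (tMask 1)
      · exact Or.inr (Or.inl h1)
      · refine Or.inr (Or.inr ((mem_tMask2 x).2 ⟨h0, fun h => h1 ((mem_tMask1 x).2 h)⟩))
  have hne1 : ∀ x ∈ mset (tMask 1), x ≠ fp 0 := fun x hx => ((mem_tMask1 x).1 hx).1.symm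
  have hne2 : ∀ x ∈ mset (tMask 2), x ≠ fp 0 ∧ x ∉ mset (tMask 1) := fun x hx =>
    ⟨((mem_tMask2 x).1 hx).1, fun h => ((mem_tMask2 x).1 hx).2 ((mem_tMask1 x).1 h)⟩
  have Φ0 : Φ (fp 0) = a := by simp [hΦ]
  have Φ1 : ∀ x ∈ mset (tMask 1), Φ x = f x := fun x hx => by simp [hΦ, hne1 x hx, hx]
  have Φ2 : ∀ x ∈ mset (tMask 2), Φ x = f2 x := fun x hx => by
    simp [hΦ, (hne2 x hx).1, (hne2 x hx).2]
  have Φb : Φ (fp 4059) = b := by rw [Φ1 _ mem_gamma_4059, fb]
  have Φc : Φ (fp 4024) = c2 := by rw [Φ2 _ delta_4024, f2c]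
  have Φsm : ∀ σ : fix1, ∀ x, Φ ((σ : Equiv.Perm (Fin 4060)) x) = (ρ.symm σ : G) • Φ x := by
    intro σ x
    rcases hex x with rfl | h | h
    · rw [(mem_fix1_iff.1 σ.2).2, Φ0]
      exact (ρ.symm σ).2.symm
    · rw [Φ1 x h, Φ1 _ (by
        show (tMask 1).testBit _ = true
        rw [pres_tMask1 σ.2]; exact h), fsm σ x h]
      rfl
    · rw [Φ2 x h, Φ2 _ (by
        show (tMask 2).testBit _ = true
        rw [pres_tMask2 σ.2]; exact h), f2sm σ x h]
      rfl
  have Φbij : Function.Bijective Φ := by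
    refine (Nat.bijective_iff_surjective_and_card Φ).2 ⟨fun y => ?_, by
      simp [hs.card]⟩
    rcases hs.cases y with h | h | h
    · exact ⟨fp 0, Φ0.trans h.symm⟩
    · have hy' : y ∈ f '' mset (tMask 1) := by rw [fim]; exact h
      obtain ⟨x, hx, rfl⟩ := hy'
      exact ⟨x, Φ1 x hx⟩
    · have hy' : y ∈ f2 '' mset (tMask 2) := by rw [f2im]; exact h
      obtain ⟨x, hx, rfl⟩ := hy'
      exact ⟨x, Φ2 x hx⟩
  have Φmem : ∀ x, (Φ x ∈ Γ → x ∈ mset (tMask 1)) ∧ (Φ x ∈ Δ → x ∈ mset (tMask 2)) := by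
    intro x
    rcases hex x with rfl | h | h
    · rw [Φ0]
      exact ⟨fun h => absurd h hs.self_not_gamma, fun h => absurd h hs.self_not_delta⟩
    · rw [Φ1 x h]
      exact ⟨fun _ => h, fun h' => absurd h' (Set.disjoint_left.1 hs.disjoint_orbits (fmem x h))⟩
    · rw [Φ2 x h]
      exact ⟨fun h' => absurd (f2mem x h) (Set.disjoint_left.1 hs.disjoint_orbits h'), fun _ => h⟩
  have row0 : ∀ x, Orbital G a b a (Φ x) ↔ R (fp 0) x := by
    intro x
    rw [orbital_base, ← mem_tMask1]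
    exact ⟨(Φmem x).1, fun h => by rw [Φ1 x h]; exact fmem x h⟩
  have row1 : ∀ x, Orbital G a b b (Φ x) ↔ R (fp 4059) x := by
    intro x
    rcases hex x with rfl | h | h
    · rw [Φ0]
      exact iff_of_true hs.ba (R_symm ((mem_tMask1 _).1 mem_gamma_4059))
    · rw [Φ1 x h]
      have := hgg _ mem_gamma_4059 x h
      rwa [fb] at this
    · constructor
      · intro hA
        have hm : Φ x ∈ T := ⟨by rw [Φ2 x h]; exact f2mem x h, hA⟩
        obtain ⟨g, hgb, hgy⟩ := htrans c2 hc2 (Φ x) hm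
        have hx : (ρ g : Equiv.Perm (Fin 4060)) (fp 4024) = x := by
          apply Φbij.1
          rw [Φsm, ρ.symm_apply_apply, Φc, hgy]
        have hx3 : x ∈ mset (tMask 3) := by
          rw [← orbit_fix2]
          exact ⟨⟨ρ g, (ρ g).2, (hρ g).2 hgb⟩, hx⟩
        exact ((mem_three x).1 hx3).2
      · intro hR
        have hx3 : x ∈ MulAction.orbit fix2 (fp 4024) := by
          rw [orbit_fix2]; exact (mem_three x).2 ⟨h, hR⟩
        obtain ⟨σ, rfl⟩ := hx3
        have hgb : (ρ.symm ⟨σ.1, σ.2.1⟩ : G) • b = b :=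
          (hρ _).1 (by rw [ρ.apply_symm_apply]; exact σ.2.2)
        show Orbital G a b b (Φ (((⟨σ.1, σ.2.1⟩ : fix1) : Equiv.Perm (Fin 4060)) (fp 4024)))
        rw [Φsm, Φc]
        have h := (orbital_smul (ρ.symm ⟨σ.1, σ.2.1⟩ : G)).2 hc2.2
        rwa [hgb] at h
  have transport : ∀ (x0 : Fin 4060), (∀ y, Orbital G a b (Φ x0) (Φ y) ↔ R x0 y) →
      ∀ σ : fix1, ∀ y, Orbital G a b (Φ ((σ : Equiv.Perm (Fin 4060)) x0)) (Φ y) ↔
        R ((σ : Equiv.Perm (Fin 4060)) x0) y := by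
    intro x0 hx0 σ y
    obtain ⟨y', rfl⟩ : ∃ y', (σ : Equiv.Perm (Fin 4060)) y' = y :=
      ⟨_, Equiv.apply_symm_apply _ y⟩
    rw [Φsm, Φsm, orbital_smul, R_aut σ.2.1]
    exact hx0 y'
  have rowΓ : ∀ x ∈ mset (tMask 1), ∀ y, Orbital G a b (Φ x) (Φ y) ↔ R x y := by
    intro x hx
    rw [← orbit_fix1_gamma mem_gamma_4059] at hx
    obtain ⟨σ, rfl⟩ := hx
    exact transport (fp 4059) (fun y => by rw [Φb]; exact row1 y) σ
  set O2 : Set (Fin 4060) := {x | x ∈ mset (tMask 2) ∧ Orbital G a b c2 (Φ x)} with hO2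
  have hO2inv : ∀ σ ∈ fix1 ⊓ stab 4024, ∀ x ∈ O2, σ x ∈ O2 := by
    intro σ hσ x hx
    refine ⟨?_, ?_⟩
    · show (tMask 2).testBit _ = true
      rw [pres_tMask2 hσ.1]; exact hx.1
    · have hgc : (ρ.symm ⟨σ, hσ.1⟩ : G) • c2 = c2 :=
        (hst2 _).1 (by rw [ρ.apply_symm_apply]; exact hσ.2)
      show Orbital G a b c2 (Φ (((⟨σ, hσ.1⟩ : fix1) : Equiv.Perm (Fin 4060)) x))
      rw [Φsm]
      have h := (orbital_smul (ρ.symm ⟨σ, hσ.1⟩ : G)).2 hx.2
      rwa [hgc] at h
  have hO2c : O2.ncard = 975 := by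
    have h1 : O2.ncard = {y | y ∈ Δ ∧ Orbital G a b c2 y}.ncard := by
      refine Set.ncard_congr (fun x _ => Φ x)
        (fun x hx => ⟨by rw [Φ2 x hx.1]; exact f2mem x hx.1, hx.2⟩)
        (fun x y _ _ h => Φbij.1 h) fun y hy => ?_
      obtain ⟨x, rfl⟩ := Φbij.2 y
      exact ⟨x, ⟨(Φmem x).2 hy.1, hy.2⟩, rfl⟩
    have hcnt' : 1755 * T.ncard = 2304 *
        {y | y ∈ Γ ∧ Orbital G a b c2 y}.ncard := hs.count hc2.1
    have hsum : {y | y ∈ Γ ∧ Orbital G a b c2 y}.ncard +
        {y | y ∈ Δ ∧ Orbital G a b c2 y}.ncard = 1755 := by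
      have hd : Disjoint {y | y ∈ Γ ∧ Orbital G a b c2 y} {y | y ∈ Δ ∧ Orbital G a b c2 y} :=
        Set.disjoint_left.2 fun y h1 h2 => Set.disjoint_left.1 hs.disjoint_orbits h1.1 h2.1
      rw [← Set.ncard_union_eq hd, ← hs.nbr_card c2]
      congr 1
      ext y
      simp only [Set.mem_union, Set.mem_setOf_eq]
      refine ⟨fun h => h.elim And.right And.right, fun hy => ?_⟩
      rcases hs.cases y with h | h | h
      · exfalso
        subst h
        exact Set.disjoint_left.1 hs.disjoint_orbits (orbital_base.1 (hs.symm hy)) hc2.1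
      · exact Or.inl ⟨h, hy⟩
      · exact Or.inr ⟨h, hy⟩
    omega
  have hdel := delta_cases O2 hO2inv (fun x hx => ⟨hx.1, fun he => hs.irrefl c2
    (by have h := hx.2; rwa [he, Φc] at h)⟩) hO2c
  have rowΔ : ∀ x ∈ mset (tMask 2), ∀ y, Orbital G a b (Φ x) (Φ y) ↔ R x y := by
    intro x hx
    rw [← orbit_fix1_delta delta_4024] at hx
    obtain ⟨σ, rfl⟩ := hx
    refine transport (fp 4024) (fun y => ?_) σ
    rw [Φc]
    rcases hex y with rfl | h | h
    · rw [Φ0]
      refine iff_of_false (fun hA => ?_) fun hR => ((mem_tMask2 _).1 delta_4024).2 (R_symm hR)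
      exact Set.disjoint_left.1 hs.disjoint_orbits (orbital_base.1 (hs.symm hA)) hc2.1
    · have := rowΓ y h (fp 4024)
      rw [Φc] at this
      exact ⟨fun hA => R_symm (this.1 (hs.symm hA)), fun hR => hs.symm (this.2 (R_symm hR))⟩
    · exact ⟨fun hA => (hdel y h).1 ⟨h, hA⟩, fun hR => ((hdel y h).2 hR).2⟩
  refine ⟨Equiv.ofBijective Φ Φbij, fun x y => ?_⟩
  show Orbital G a b (Φ x) (Φ y) ↔ R x y
  rcases hex x with rfl | h | h
  · rw [Φ0]; exact row0 y
  · exact rowΓ x h y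
  · exact rowΔ x h y

/-- The group is the group of automorphisms of the graph. -/
theorem equiv_aut (hs : Shape G a b c) (e : MulAction.stabilizer G a ≃* ↥fix1) :
    Nonempty (G ≃* ↥autGrp) := by
  obtain ⟨Φ, hΦ⟩ := exists_iso hs e
  set θ : ↥G →* Equiv.Perm (Fin 4060) :=
    Φ.symm.permCongrHom.toMonoidHom.comp G.subtype with hθ
  have hval : ∀ (g : G) (x : Fin 4060), Φ (θ g x) = g • Φ x := by
    intro g x
    show Φ (Φ.symm ((g : Equiv.Perm Ω) (Φ.symm.symm x))) = _
    rw [Equiv.apply_symm_apply]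
    rfl
  have hle : θ.range ≤ autGrp := by
    rintro _ ⟨g, rfl⟩ i j
    rw [Bool.eq_iff_iff, ← not_iff_not, Bool.not_eq_true, Bool.not_eq_true, R_of_adj, R_of_adj,
      (θ g).injective.eq_iff]
    refine or_congr Iff.rfl ?_
    rw [← hΦ, ← hΦ, hval, hval, orbital_smul]
  have hinj : Function.Injective θ := fun g g' h =>
    Subtype.ext (Φ.symm.permCongrHom.injective h)
  haveI := hs.trans
  have hG : Nat.card G = 145926144000 := by
    have h := (MulAction.stabilizer G a).card_mul_index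
    rw [MulAction.index_stabilizer_of_transitive, Nat.card_congr e.toEquiv, card_fix1,
      Nat.card_eq_fintype_card, hs.card] at h
    omega
  have heq : θ.range = autGrp := by
    refine Subgroup.eq_of_le_of_card_ge hle ?_
    rw [← Nat.card_congr (MonoidHom.ofInjective hinj).toEquiv, hG, card_aut]
  exact ⟨(MonoidHom.ofInjective hinj).trans (MulEquiv.subgroupCongr heq)⟩

end Cfsg.Agent.H90.Rudv
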