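import Cfsg.Agent.H90.Rudv.Model

/-!
A subgroup of order 15600 of a point stabiliser which contains the element of order five has no
element of order divisible by 16.
-/

set_option autoImplicit false
set_option maxRecDepth 20000

namespace Cfsg.Agent.H90.Rudv

open Cfsg.Agent.PGroups.Ru

/-- In a group of order 15600 with cyclic Sylow 2-subgroups every element of order five commutes
with an element of order thirteen. -/
theorem commute_of_sixteen {G : Type*} [Group G] [Finite G] (hG : Nat.card G = 15600) (y e : G)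
    (hy : orderOf y = 16) (he : orderOf e = 5) : ∃ x : G, orderOf x = 13 ∧ Commute e x := by
  haveI h2 := Fact.mk Nat.prime_two
  have hcard : Nat.card (Subgroup.zpowers y) = 2 ^ (Nat.card G).factorization 2 := by
    rw [Nat.card_zpowers, hy, hG]
    have : (15600 : ℕ) = 2 ^ 4 * 975 := by norm_num
    rw [this, Nat.factorization_mul (by norm_num) (by norm_num), Nat.factorization_pow]
    simp [Nat.prime_two.factorization_self,
      Nat.factorization_eq_zero_of_not_dvd (show ¬ 2 ∣ 975 by norm_num)]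
  let P : Sylow 2 G := Sylow.ofCard (Subgroup.zpowers y) hcard
  have hP : IsCyclic P := inferInstanceAs (IsCyclic (Subgroup.zpowers y))
  have hmin : (Nat.card G).minFac = 2 := by rw [hG]; norm_num
  let φ := MonoidHom.transferSylow P (hP.normalizer_le_centralizer hmin)
  have hc : φ.ker.IsComplement' P := hP.isComplement' hmin
  set N := φ.ker with hN
  have hNcard : Nat.card N = 975 := by
    have h := hc.card_mul
    rw [hG, show Nat.card (P : Subgroup G) = 16 from (Nat.card_zpowers y).trans hy] at h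
    omega
  have heN : e ∈ N := by
    rw [hN, MonoidHom.mem_ker, ← orderOf_eq_one_iff]
    have h1 : orderOf (φ e) ∣ 5 := he ▸ orderOf_map_dvd φ e
    have h2 : orderOf (φ e) ∣ 16 := by
      have := orderOf_dvd_natCard (φ e)
      rwa [show Nat.card (P : Subgroup G) = 16 from (Nat.card_zpowers y).trans hy] at this
    have := Nat.dvd_gcd h1 h2
    rw [show Nat.gcd 5 16 = 1 from rfl] at this
    exact Nat.dvd_one.1 this
  haveI h13 := Fact.mk (show Nat.Prime 13 by norm_num)
  obtain ⟨x, hx⟩ := exists_prime_orderOf_dvd_card' (G := N) 13 (by rw [hNcard]; norm_num)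
  have hQcard : Nat.card (Subgroup.zpowers x) = 13 ^ (Nat.card N).factorization 13 := by
    rw [Nat.card_zpowers, hx, hNcard]
    have : (975 : ℕ) = 13 ^ 1 * 75 := by norm_num
    rw [this, Nat.factorization_mul (by norm_num) (by norm_num), Nat.factorization_pow]
    simp [h13.out.factorization_self,
      Nat.factorization_eq_zero_of_not_dvd (show ¬ 13 ∣ 75 by norm_num)]
  let Q : Sylow 13 N := Sylow.ofCard (Subgroup.zpowers x) hQcard
  have hone : Nat.card (Sylow 13 N) = 1 := by
    have h1 := card_sylow_modEq_one 13 N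
    have h3 : (Q : Subgroup N).index = 75 := by
      have := (Q : Subgroup N).card_mul_index
      rw [show Nat.card (Q : Subgroup N) = 13 from (Nat.card_zpowers x).trans hx, hNcard] at this
      omega
    have h2 : Nat.card (Sylow 13 N) ∣ 75 := h3 ▸ Q.card_dvd_index
    have hmem : Nat.card (Sylow 13 N) ∈ Nat.divisors 75 :=
      Nat.mem_divisors.2 ⟨h2, by norm_num⟩
    rw [show Nat.divisors 75 = {1, 3, 5, 15, 25, 75} by decide] at hmem
    simp only [Finset.mem_insert, Finset.mem_singleton] at hmem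
    rcases hmem with h | h | h | h | h | h <;> first | exact h | (rw [h] at h1; exact absurd h1 (by decide))
  haveI : Subsingleton (Sylow 13 N) := (Nat.card_eq_one_iff_unique.1 hone).1
  haveI hnor : (Subgroup.zpowers x).Normal := Q.normal_of_subsingleton
  set e' : N := ⟨e, heN⟩
  set ψ : N →* MulAut (Subgroup.zpowers x) := MulAut.conjNormal
  have haut : Nat.card (MulAut (Subgroup.zpowers x)) = 12 := by
    rw [IsCyclic.card_mulAut, Nat.card_zpowers, hx]; rfl
  have hψ : ψ e' = 1 := by
    have h1 : orderOf (ψ e') ∣ 5 := by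
      have := orderOf_map_dvd ψ e'
      rwa [Subgroup.orderOf_mk, he] at this
    have h2 : orderOf (ψ e') ∣ 12 := haut ▸ orderOf_dvd_natCard _
    have := Nat.dvd_gcd h1 h2
    rw [show Nat.gcd 5 12 = 1 from rfl] at this
    exact orderOf_eq_one_iff.1 (Nat.dvd_one.1 this)
  refine ⟨(x : G), by rw [Subgroup.orderOf_coe, hx], ?_⟩
  have h := congrArg (fun a => ((a ⟨x, Subgroup.mem_zpowers x⟩ : Subgroup.zpowers x) : N)) hψ
  simp only [ψ, MulAut.conjNormal_apply, MulAut.one_apply] at h
  have h' : e * (x : G) * e⁻¹ = (x : G) := congrArg (fun a : N => (a : G)) h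
  show e * (x : G) = (x : G) * e
  exact mul_inv_eq_iff_eq_mul.1 h'

theorem efix_cert :
    (((members (tMask 1)).filter fun x => img eIdx x == x).length == 5) = true := by
  decide +kernel

theorem commute_mem_fix2 {x : Equiv.Perm (Fin 4060)} (hx : x ∈ fix1) (hxo : orderOf x = 13)
    (hc : Commute eP x) : x ∈ fix2 := by
  haveI := Fact.mk (show Nat.Prime 13 by norm_num)
  set S : Set (Fin 4060) := {a | a ∈ mset (tMask 1) ∧ eP a = a} with hS
  have hcard : S.ncard = 5 := by
    have h := efix_cert
    rw [beq_iff_eq, ← List.countP_eq_length_filter, countP_members] at h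
    rw [← h, ← Set.ncard_coe_finset]
    congr 1
    ext a
    simp only [hS, mset, Set.mem_setOf_eq, Finset.coe_filter, Finset.mem_univ, true_and,
      beq_iff_eq, eP, ← (node_spec eIdx_lt).2, Fin.val_inj]
  have he4 : eP (fp 4059) = fp 4059 := mem_stab.1 eP_mem.1.2
  have h4059 : fp 4059 ∈ S := ⟨mem_gamma_4059, he4⟩
  have hsub : MulAction.orbit (Subgroup.zpowers x) (fp 4059) ⊆ S := by
    rintro _ ⟨⟨z, hz⟩, rfl⟩
    obtain ⟨k, rfl⟩ := Subgroup.mem_zpowers_iff.1 hz
    have hz1 : x ^ k ∈ fix1 := zpow_mem hx k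
    refine ⟨?_, ?_⟩
    · show (tMask 1).testBit ((x ^ k) (fp 4059)).1 = true
      rw [pres_tMask1 hz1]; exact mem_gamma_4059
    · show eP ((x ^ k) (fp 4059)) = (x ^ k) (fp 4059)
      rw [← Equiv.Perm.mul_apply, (hc.zpow_right k).eq, Equiv.Perm.mul_apply, he4]
  have hle := Set.ncard_le_ncard hsub (Set.toFinite _)
  rw [hcard] at hle
  have hdvd : (MulAction.orbit (Subgroup.zpowers x) (fp 4059)).ncard ∣ 13 :=
    ⟨_, by rw [← hxo, ← Nat.card_zpowers]; exact card_eq_orbit_mul _ _⟩
  rcases (Nat.dvd_prime (show Nat.Prime 13 by norm_num)).1 hdvd with h1 | h1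
  · refine ⟨hx, ?_⟩
    obtain ⟨a, ha⟩ := Set.ncard_eq_one.1 h1
    have e1 : fp 4059 ∈ MulAction.orbit (Subgroup.zpowers x) (fp 4059) := MulAction.mem_orbit_self _
    have e2 : x (fp 4059) ∈ MulAction.orbit (Subgroup.zpowers x) (fp 4059) :=
      ⟨⟨x, Subgroup.mem_zpowers x⟩, rfl⟩
    rw [ha, Set.mem_singleton_iff] at e1 e2
    show x (fp 4059) = fp 4059
    rw [e2, e1]
  · omega

/-- The subgroup has no element of order divisible by sixteen. -/
theorem not_sixteen_dvd {K : Subgroup (Equiv.Perm (Fin 4060))} (hK : K ≤ fix1)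
    (hcard : Nat.card K = 15600) (he : eP ∈ K) {w : Equiv.Perm (Fin 4060)} (hw : w ∈ K) :
    ¬ 16 ∣ orderOf w := by
  intro h16
  have hyo : orderOf (w ^ (orderOf w / 16)) = 16 :=
    orderOf_pow_orderOf_div (orderOf_pos w).ne' h16
  obtain ⟨x, hxo, hc⟩ := commute_of_sixteen hcard ⟨w ^ (orderOf w / 16), pow_mem hw _⟩ ⟨eP, he⟩
    (by rw [Subgroup.orderOf_mk]; exact hyo) (by rw [Subgroup.orderOf_mk]; exact eP_order)
  have hxo' : orderOf (x : Equiv.Perm (Fin 4060)) = 13 := by rw [Subgroup.orderOf_coe, hxo]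
  have hc' : Commute eP (x : Equiv.Perm (Fin 4060)) := hc.map K.subtype
  have hm := commute_mem_fix2 (hK x.2) hxo' hc'
  have hd := Subgroup.orderOf_dvd_natCard fix2 hm
  rw [hxo', card_fix2] at hd
  norm_num at hd

end Cfsg.Agent.H90.Rudv
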